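import Groth.Agent.AVTorsLib.DivGroup
import Groth.Prelude.Def_AbDual
import Mathlib.NumberTheory.Padics.RingHoms
import Mathlib.LinearAlgebra.StdBasis

/-!
The Tate module of a divisible group of points with finite torsion is free.
-/

set_option autoImplicit false
set_option linter.style.haveILetI false
set_option linter.unusedSectionVars false

universe u

open CategoryTheory MonoidalCategory CartesianMonoidalCategory MonObj AlgebraicGeometry

namespace Groth.Agent.AVTorsLib

variable {S : Scheme.{u}} {A : Over S} [GrpObj A] [IsCommMonObj A] {T : Over S} {l : ℕ} [hl : Fact l.Prime]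

theorem nonempty_tateBasis (hdiv : ∀ x : Additive (T ⟶ A), ∃ y, l • y = x) (r : ℕ)
    (hcard : Nat.card (tor l : AddSubgroup (Additive (T ⟶ A))) = l ^ r) :
    Nonempty (Module.Basis (Fin r) ℤ_[l] (AbDual.TateMod A l T)) := by
  classical
  obtain ⟨g, hg0, hcompat, hK, hS⟩ := exists_system l hdiv r hcard
  have htors : ∀ n i, (l ^ n) • g n i = 0 := fun n i => by
    have h := (hK n (Pi.single i ((l ^ n : ℕ) : ℤ))).2 fun j => by
      rcases eq_or_ne j i with rfl | hj
      · rw [Pi.single_eq_same, Nat.cast_pow]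
      · rw [Pi.single_eq_of_ne hj]; exact dvd_zero _
    rw [Finset.sum_eq_single i (fun j _ hj => by rw [Pi.single_eq_of_ne hj, zero_zsmul])
      (fun hi => absurd (Finset.mem_univ i) hi), Pi.single_eq_same, natCast_zsmul] at h
    exact h
  let X : Fin r → AbDual.TateMod A l T := fun i =>
    ⟨fun n => g n i, fun n => htors n i, fun n => hcompat n i⟩
  let F : (Fin r → ℤ_[l]) →ₗ[ℤ_[l]] AbDual.TateMod A l T := Fintype.linearCombination ℤ_[l] X
  have hF : ∀ c n, (F c : ℕ → Additive (T ⟶ A)) n = ∑ i, ((c i).appr n : ℤ) • g n i := fun c n => by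
    show AbDual.TateMod.component A l T n (∑ i, c i • X i) = _
    rw [map_sum]
    exact Finset.sum_congr rfl fun i _ => (natCast_zsmul (g n i) _).symm
  have hinj : Function.Injective F := (injective_iff_map_eq_zero F).2 fun c hc => funext fun i => by
    refine (PadicInt.ext_of_toZModPow).1 fun n => ?_
    have h0 : (F c : ℕ → Additive (T ⟶ A)) n = 0 := by rw [hc]; rfl
    rw [hF] at h0
    have := (hK n _).1 h0 i
    rw [Pi.zero_apply, map_zero, AbDual.toZModPow_eq_appr, ← Int.cast_natCast, ZMod.intCast_zmod_eq_zero_iff_dvd, Nat.cast_pow]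
    exact this
  have hsurj : Function.Surjective F := fun x => by
    choose a ha using fun n => hS n ((x : ℕ → Additive (T ⟶ A)) n) (x.torsion n)
    have hstep : ∀ n i, ((l : ℤ) ^ n) ∣ a (n + 1) i - a n i := fun n => by
      refine (hK n _).1 ?_
      simp only [sub_smul, Finset.sum_sub_distrib]
      rw [ha n, ← x.compat n, ← ha (n + 1), Finset.smul_sum, sub_eq_zero]
      refine Finset.sum_congr rfl fun i _ => ?_
      rw [smul_comm, hcompat]
    have hmono : ∀ i m n, m ≤ n → ((l : ℤ) ^ m) ∣ a m i - a n i := fun i m n hmn => by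
      induction n, hmn using Nat.le_induction with
      | base => simp
      | succ n hn ih =>
        have h2 := (pow_dvd_pow (l : ℤ) hn).trans (hstep n i)
        have := dvd_sub ih h2
        rwa [sub_sub_sub_cancel_right] at this
    have hlim : ∀ i, ∃ c : ℤ_[l], ∀ n, ((a n i : ℤ) : ℤ_[l]) - c ∈ Ideal.span {(l : ℤ_[l]) ^ n} := fun i => by
      obtain ⟨c, hc⟩ := IsPrecomplete.prec' (I := IsLocalRing.maximalIdeal ℤ_[l]) (fun n => ((a n i : ℤ) : ℤ_[l]))
        (fun {m n} hmn => by
          rw [SModEq.sub_mem, smul_eq_mul, Ideal.mul_top, PadicInt.maximalIdeal_eq_span_p, Ideal.span_singleton_pow,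
            Ideal.mem_span_singleton]
          obtain ⟨d, hd⟩ := hmono i m n hmn
          exact ⟨(d : ℤ_[l]), by exact_mod_cast congrArg (Int.cast : ℤ → ℤ_[l]) hd⟩)
      refine ⟨c, fun n => ?_⟩
      have := hc n
      rwa [SModEq.sub_mem, smul_eq_mul, Ideal.mul_top, PadicInt.maximalIdeal_eq_span_p, Ideal.span_singleton_pow]
        at this
    choose c hc using hlim
    refine ⟨c, AbDual.TateMod.ext fun n => ?_⟩
    rw [hF, ← ha n, ← sub_eq_zero, ← Finset.sum_sub_distrib]
    simp only [← sub_smul]
    refine (hK n _).2 fun i => ?_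
    have h1 := hc i n
    rw [← PadicInt.ker_toZModPow, RingHom.mem_ker, map_sub, map_intCast, sub_eq_zero, AbDual.toZModPow_eq_appr] at h1
    rw [← Nat.cast_pow, ← ZMod.intCast_zmod_eq_zero_iff_dvd, Int.cast_sub, Int.cast_natCast, h1, sub_self]
  exact ⟨(Pi.basisFun ℤ_[l] (Fin r)).map (LinearEquiv.ofBijective F ⟨hinj, hsurj⟩)⟩

theorem tateMod_free (hdiv : ∀ x : Additive (T ⟶ A), ∃ y, l • y = x) (r : ℕ)
    (hcard : Nat.card (tor l : AddSubgroup (Additive (T ⟶ A))) = l ^ r) :
    Module.Free ℤ_[l] (AbDual.TateMod A l T) ∧ Module.Finite ℤ_[l] (AbDual.TateMod A l T) ∧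
      Module.finrank ℤ_[l] (AbDual.TateMod A l T) = r := by
  obtain ⟨b⟩ := nonempty_tateBasis hdiv r hcard
  exact ⟨Module.Free.of_basis b, Module.Finite.of_basis b, by rw [Module.finrank_eq_card_basis b, Fintype.card_fin]⟩

/-- Every torsion point is a component of an element of the Tate module. -/
theorem exists_component_eq (hdiv : ∀ x : Additive (T ⟶ A), ∃ y, l • y = x) (n : ℕ) (x : T ⟶ A)
    (hx : x ∈ AbDual.torsPts A (l ^ n) T) :
    ∃ z : AbDual.TateMod A l T, (z : ℕ → Additive (T ⟶ A)) n = Additive.ofMul x := by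
  obtain ⟨root, hroot⟩ := Classical.axiomOfChoice hdiv
  have hx' : (l ^ n) • Additive.ofMul x = 0 := congrArg Additive.ofMul hx
  let up : ℕ → Additive (T ⟶ A) := fun j => root^[j] (Additive.ofMul x)
  have hup : ∀ j, l • up (j + 1) = up j := fun j => by
    show l • root^[j + 1] _ = _
    rw [Function.iterate_succ_apply', hroot]
  have hup' : ∀ j, (l ^ j) • up j = Additive.ofMul x := fun j => by
    induction j with
    | zero => simp [up]
    | succ j ih => rw [pow_succ, mul_nsmul', hup, ih]
  let z : ℕ → Additive (T ⟶ A) := fun m => if m ≤ n then (l ^ (n - m)) • Additive.ofMul x else up (m - n)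
  have hz1 : ∀ m, (l ^ m) • z m = 0 := fun m => by
    simp only [z]
    split_ifs with h
    · rw [← mul_nsmul', ← pow_add, Nat.add_sub_cancel' h, hx']
    · conv_lhs => rw [show m = n + (m - n) by omega, pow_add, mul_nsmul', Nat.add_sub_cancel_left, hup', hx']
  have hz2 : ∀ m, l • z (m + 1) = z m := fun m => by
    simp only [z]
    split_ifs with h1 h2 h2
    · rw [← mul_nsmul', ← pow_succ', show n - (m + 1) + 1 = n - m by omega]
    · omega
    · rw [show m + 1 - n = 0 + 1 by omega, hup, show n - m = 0 by omega, pow_zero, one_nsmul]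
      rfl
    · rw [show m + 1 - n = (m - n) + 1 by omega, hup]
  exact ⟨⟨z, hz1, hz2⟩, by simp [z]⟩

end Groth.Agent.AVTorsLib
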