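import Mathlib.LinearAlgebra.Basis.Basic
import Mathlib.LinearAlgebra.Basis.VectorSpace
import Mathlib.Algebra.BigOperators.Fin
import Mathlib.GroupTheory.QuotientGroup.Basic
import Mathlib.SetTheory.Cardinal.Finite
import Mathlib.Data.ZMod.Basic
import Mathlib.Algebra.Field.ZMod
import Mathlib.Algebra.Module.ZMod
import Mathlib.LinearAlgebra.FiniteDimensional.Basic
import Mathlib.NumberTheory.Padics.RingHoms
import Mathlib.GroupTheory.PGroup
import Mathlib.FieldTheory.Finiteness
import Mathlib.LinearAlgebra.Dimension.Free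

/-!
The torsion of an `l`-divisible abelian group with finite `l`-torsion.
-/

set_option autoImplicit false
set_option linter.style.haveILetI false
set_option linter.unusedSectionVars false

universe u

namespace Groth.Agent.AVTorsLib

variable {P : Type u} [AddCommGroup P]

/-- The kernel of multiplication by `m`. -/
abbrev tor (m : ℕ) : AddSubgroup P := (nsmulAddMonoidHom m : P →+ P).ker

theorem mem_tor {m : ℕ} (x : P) : x ∈ (tor m : AddSubgroup P) ↔ m • x = 0 := Iff.rfl

section prime

variable (l : ℕ) [hl : Fact l.Prime]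

theorem exists_basis_aux (V : Type u) [AddCommGroup V] [Finite V] [Module (ZMod l) V] :
    ∃ (r : ℕ) (b : Fin r → V), Nat.card V = l ^ r ∧
      (∀ a : Fin r → ℤ, ∑ i, a i • b i = 0 ↔ ∀ i, (l : ℤ) ∣ a i) ∧
      ∀ v : V, ∃ a : Fin r → ℤ, ∑ i, a i • b i = v := by
  haveI : Module.Finite (ZMod l) V := Module.Finite.of_finite
  let b := Module.finBasis (ZMod l) V
  refine ⟨_, b, by rw [Module.natCard_eq_pow_finrank (K := ZMod l), Nat.card_zmod], fun a => ?_, fun v =>
    ⟨fun i => ((b.repr v i).val : ℤ), ?_⟩⟩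
  · simp only [← Int.cast_smul_eq_zsmul (ZMod l), ← ZMod.intCast_zmod_eq_zero_iff_dvd]
    exact ⟨fun h i => Fintype.linearIndependent_iff.1 b.linearIndependent _ h i, fun h => by simp [h]⟩
  · simp only [← Int.cast_smul_eq_zsmul (ZMod l), Int.cast_natCast, ZMod.natCast_zmod_val, b.sum_repr]

/-- A basis of the elements killed by a prime. -/
theorem exists_basis [Finite (tor l : AddSubgroup P)] :
    ∃ (r : ℕ) (b : Fin r → P), Nat.card (tor l : AddSubgroup P) = l ^ r ∧ (∀ i, l • b i = 0) ∧
      (∀ a : Fin r → ℤ, ∑ i, a i • b i = 0 ↔ ∀ i, (l : ℤ) ∣ a i) ∧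
      ∀ y : P, l • y = 0 → ∃ a : Fin r → ℤ, ∑ i, a i • b i = y := by
  letI : Module (ZMod l) (tor l : AddSubgroup P) := AddCommGroup.zmodModule fun x => Subtype.ext x.2
  obtain ⟨r, b, h1, h2, h3⟩ := exists_basis_aux l (tor l : AddSubgroup P)
  have hc : ∀ a : Fin r → ℤ, ((∑ i, a i • b i : (tor l : AddSubgroup P)) : P) = ∑ i, a i • (b i : P) := fun a => by
    rw [AddSubgroup.val_finsetSum]; rfl
  refine ⟨r, fun i => (b i : P), h1, fun i => (b i).2, fun a => ?_, fun y hy => ?_⟩
  · rw [← hc, ← h2, ZeroMemClass.coe_eq_zero]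
  · obtain ⟨a, ha⟩ := h3 ⟨y, hy⟩
    exact ⟨a, by rw [← hc, ha]⟩

/-- A compatible system of `l`-power torsion elements starting with a basis of the `l`-torsion. -/
theorem exists_system (hdiv : ∀ x : P, ∃ y : P, l • y = x) (r : ℕ)
    (hcard : Nat.card (tor l : AddSubgroup P) = l ^ r) :
    ∃ g : ℕ → Fin r → P, (∀ i, g 0 i = 0) ∧ (∀ n i, l • g (n + 1) i = g n i) ∧
      (∀ n (a : Fin r → ℤ), ∑ i, a i • g n i = 0 ↔ ∀ i, ((l : ℤ) ^ n) ∣ a i) ∧
      ∀ n (y : P), (l ^ n) • y = 0 → ∃ a : Fin r → ℤ, ∑ i, a i • g n i = y := by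
  classical
  haveI : Finite (tor l : AddSubgroup P) :=
    Nat.finite_of_card_ne_zero (by rw [hcard]; exact pow_ne_zero _ hl.out.ne_zero)
  obtain ⟨r', b, hb0, hb, h1K, h1S⟩ := exists_basis l (P := P)
  obtain rfl : r = r' := Nat.pow_right_injective hl.out.two_le (hcard.symm.trans hb0)
  obtain ⟨root, hroot⟩ := Classical.axiomOfChoice hdiv
  let g : ℕ → Fin r → P := fun n i => Nat.rec 0 (fun m x => if m = 0 then b i else root x) n
  have hg1 : ∀ i, g 1 i = b i := fun i => rfl
  have hcompat : ∀ n i, l • g (n + 1) i = g n i := by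
    intro n i
    rcases n with _ | n
    · exact hb i
    · exact hroot _
  have hpow : ∀ n i, (l ^ n) • g (n + 1) i = g 1 i := by
    intro n i
    induction n with
    | zero => simp
    | succ n ih => rw [pow_succ, mul_nsmul', hcompat, ih]
  have hsum : ∀ n (a : Fin r → ℤ), (l : ℤ) • ∑ i, a i • g (n + 1) i = ∑ i, a i • g n i := fun n a => by
    rw [Finset.smul_sum]
    exact Finset.sum_congr rfl fun i _ => by rw [smul_comm, natCast_zsmul, hcompat]
  refine ⟨g, fun i => rfl, hcompat, fun n => ?_, fun n => ?_⟩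
  · induction n with
    | zero => intro a; simp [g]
    | succ n ih =>
      intro a
      constructor
      · intro h i
        have h' : ∀ i, (l : ℤ) ^ n ∣ a i := (ih a).1 (by rw [← hsum, h, smul_zero])
        choose c hc using h'
        have h2 : ∑ i, c i • g 1 i = 0 := by
          rw [← h]
          refine Finset.sum_congr rfl fun i _ => ?_
          rw [hc i, mul_comm, mul_zsmul, ← Nat.cast_pow, natCast_zsmul, hpow]
        rw [hc i, pow_succ]
        exact mul_dvd_mul_left _ ((h1K c).1 (by simpa only [hg1] using h2) i)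
      · intro h
        refine Finset.sum_eq_zero fun i _ => ?_
        obtain ⟨c, hc⟩ := h i
        have : (l ^ (n + 1)) • g (n + 1) i = 0 := by
          rw [pow_succ', mul_nsmul', hpow, hg1]; exact hb i
        rw [hc, mul_comm, mul_zsmul, ← Nat.cast_pow, natCast_zsmul, this, smul_zero]
  · induction n with
    | zero => intro y hy; exact ⟨0, by simpa using hy.symm⟩
    | succ n ih =>
      intro y hy
      obtain ⟨a, ha⟩ := ih (l • y) (by rwa [← mul_nsmul', ← pow_succ])
      obtain ⟨c, hc⟩ := h1S (y - ∑ i, a i • g (n + 1) i) (by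
        rw [smul_sub, ← natCast_zsmul (∑ i, _) l, hsum, ha, sub_self])
      refine ⟨fun i => a i + c i * ((l ^ n : ℕ) : ℤ), ?_⟩
      have : ∀ i, (a i + c i * ((l ^ n : ℕ) : ℤ)) • g (n + 1) i = a i • g (n + 1) i + c i • g 1 i := fun i => by
        rw [add_zsmul, mul_zsmul, natCast_zsmul, hpow]
      simp only [this, Finset.sum_add_distrib, hg1, hc, add_sub_cancel]

/-- The `l`-power torsion of a divisible group is a free module over `ℤ/l^n`. -/
theorem nonempty_equiv_tor (hdiv : ∀ x : P, ∃ y : P, l • y = x) (r : ℕ)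
    (hcard : Nat.card (tor l : AddSubgroup P) = l ^ r) (n : ℕ) :
    Nonempty ((tor (l ^ n) : AddSubgroup P) ≃+ (Fin r → ZMod (l ^ n))) := by
  classical
  obtain ⟨g, -, -, hker, hsurj⟩ := exists_system l hdiv r hcard
  let F : (Fin r → ℤ) →+ P :=
    { toFun := fun a => ∑ i, a i • g n i
      map_zero' := by simp
      map_add' := fun a b => by simp [add_zsmul, Finset.sum_add_distrib] }
  let π : (Fin r → ℤ) →+ (Fin r → ZMod (l ^ n)) := (Int.castAddHom (ZMod (l ^ n))).compLeft _
  have hπ : Function.Surjective π := fun c =>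
    ⟨fun i => (ZMod.intCast_surjective (c i)).choose, funext fun i => (ZMod.intCast_surjective (c i)).choose_spec⟩
  have hk : π.ker = F.ker := by
    ext a
    refine ⟨fun h => (hker n a).2 fun i => ?_, fun h => funext fun i => ?_⟩
    · have := congrFun h i
      simpa [π, ZMod.intCast_zmod_eq_zero_iff_dvd] using this
    · have := (hker n a).1 h i
      simpa [π, ZMod.intCast_zmod_eq_zero_iff_dvd] using this
  have hF : F.range = tor (l ^ n) := by
    ext y
    refine ⟨?_, fun hy => hsurj n y hy⟩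
    rintro ⟨a, rfl⟩
    show (l ^ n) • ∑ i, a i • g n i = 0
    rw [Finset.smul_sum]
    refine Eq.trans (Finset.sum_congr rfl fun i _ => ?_) ((hker n fun i => ((l ^ n : ℕ) : ℤ) * a i).2 fun i => ?_)
    · rw [mul_zsmul, natCast_zsmul]
    · rw [Nat.cast_pow]; exact dvd_mul_right _ _
  exact ⟨((QuotientAddGroup.quotientKerEquivOfSurjective π hπ).symm.trans
    ((QuotientAddGroup.quotientAddEquivOfEq hk).trans
      ((QuotientAddGroup.quotientKerEquivRange F).trans (AddEquiv.addSubgroupCongr hF)))).symm⟩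

theorem natCard_tor (hdiv : ∀ x : P, ∃ y : P, l • y = x) (r : ℕ)
    (hcard : Nat.card (tor l : AddSubgroup P) = l ^ r) (n : ℕ) :
    Nat.card (tor (l ^ n) : AddSubgroup P) = l ^ (r * n) := by
  obtain ⟨e⟩ := nonempty_equiv_tor l hdiv r hcard n
  rw [Nat.card_congr e.toEquiv, Nat.card_fun, Nat.card_zmod, Nat.card_fin, ← pow_mul, mul_comm]

/-- The number of elements killed by a prime is a power of the prime. -/
theorem exists_natCard_tor [Finite (tor l : AddSubgroup P)] :
    ∃ r, Nat.card (tor l : AddSubgroup P) = l ^ r := by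
  obtain ⟨r, -, h, -⟩ := exists_basis l (P := P)
  exact ⟨r, h⟩

theorem finite_tor_pow (hdiv : ∀ x : P, ∃ y : P, l • y = x) [Finite (tor l : AddSubgroup P)] (n : ℕ) :
    Finite (tor (l ^ n) : AddSubgroup P) := by
  obtain ⟨r, hr⟩ := exists_natCard_tor l (P := P)
  haveI : NeZero (l ^ n) := ⟨pow_ne_zero _ hl.out.ne_zero⟩
  obtain ⟨e⟩ := nonempty_equiv_tor l hdiv r hr n
  exact Finite.of_equiv _ e.symm.toEquiv

end prime

/-- The torsion of coprime orders splits. -/
theorem nonempty_equiv_tor_mul {a b : ℕ} (hab : a.Coprime b) :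
    Nonempty ((tor (a * b) : AddSubgroup P) ≃+ ↥(tor a : AddSubgroup P) × ↥(tor b : AddSubgroup P)) := by
  let f : ↥(tor a : AddSubgroup P) × ↥(tor b : AddSubgroup P) →+ (tor (a * b) : AddSubgroup P) :=
    { toFun := fun z => ⟨z.1.1 + z.2.1, by
        refine (mem_tor _).2 ?_
        have h1 : a • z.1.1 = 0 := z.1.2
        have h2 : b • z.2.1 = 0 := z.2.2
        rw [smul_add, mul_nsmul' z.2.1, h2, mul_comm, mul_nsmul' z.1.1, h1, smul_zero, smul_zero, add_zero]⟩
      map_zero' := Subtype.ext (add_zero _)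
      map_add' := fun z w => Subtype.ext (add_add_add_comm _ _ _ _) }
  obtain ⟨u, v, huv⟩ : ∃ u v : ℤ, u * a + v * b = 1 := (hab.isCoprime : IsCoprime (a : ℤ) (b : ℤ))
  refine ⟨(AddEquiv.ofBijective f ⟨(injective_iff_map_eq_zero f).2 fun z hz => ?_, fun z => ?_⟩).symm⟩
  · have h : z.1.1 + z.2.1 = 0 := congrArg Subtype.val hz
    have hx : z.1.1 = -z.2.1 := eq_neg_of_add_eq_zero_left h
    have hz1 : a • z.1.1 = 0 := z.1.2
    have hz2 : b • z.2.1 = 0 := z.2.2
    have hx0 : z.1.1 = 0 := by
      calc z.1.1 = (u * a + v * b) • z.1.1 := by rw [huv, one_zsmul]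
        _ = 0 := by
          rw [add_zsmul, mul_zsmul, natCast_zsmul, hz1, mul_zsmul, natCast_zsmul, hx, smul_neg, hz2]
          simp
    refine Prod.ext (Subtype.ext hx0) (Subtype.ext ?_)
    have := h
    rwa [hx0, zero_add] at this
  · have hz : (a * b) • z.1 = 0 := z.2
    have h1 : a • ((v * b) • z.1) = 0 := by
      rw [← natCast_zsmul, smul_smul, mul_left_comm, ← Nat.cast_mul, mul_zsmul, natCast_zsmul, hz, smul_zero]
    have h2 : b • ((u * a) • z.1) = 0 := by
      rw [← natCast_zsmul, smul_smul, mul_left_comm, ← Nat.cast_mul, mul_comm b, mul_zsmul, natCast_zsmul, hz,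
        smul_zero]
    refine ⟨⟨⟨_, h1⟩, ⟨_, h2⟩⟩, Subtype.ext ?_⟩
    show (v * b) • z.1 + (u * a) • z.1 = z.1
    rw [← add_zsmul, add_comm, huv, one_zsmul]

/-- The torsion of order prime to a set of exceptions is free of the same rank. -/
theorem nonempty_equiv_tor_of_primePow (r : ℕ) (n : ℕ) (hn : 0 < n)
    (h : ∀ p k, p.Prime → p ^ k ∣ n → Nonempty ((tor (p ^ k) : AddSubgroup P) ≃+ (Fin r → ZMod (p ^ k)))) :
    Nonempty ((tor n : AddSubgroup P) ≃+ (Fin r → ZMod n)) := by
  induction n using Nat.recOnPosPrimePosCoprime with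
  | prime_pow p k hp hk => exact h p k hp dvd_rfl
  | zero => omega
  | one =>
    haveI : Subsingleton (tor 1 : AddSubgroup P) :=
      ⟨fun x y => Subtype.ext (by rw [← one_nsmul x.1, (mem_tor x.1).1 x.2, ← one_nsmul y.1, (mem_tor y.1).1 y.2])⟩
    exact ⟨{ toFun := fun _ => 0
             invFun := fun _ => 0
             left_inv := fun x => Subsingleton.elim _ _
             right_inv := fun x => Subsingleton.elim _ _
             map_add' := fun _ _ => Subsingleton.elim _ _ }⟩
  | coprime a b ha hb hab iha ihb =>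
    obtain ⟨e⟩ := nonempty_equiv_tor_mul (P := P) hab
    obtain ⟨ea⟩ := iha (by omega) fun p k hp hd => h p k hp (hd.trans (dvd_mul_right _ _))
    obtain ⟨eb⟩ := ihb (by omega) fun p k hp hd => h p k hp (hd.trans (dvd_mul_left _ _))
    exact ⟨e.trans ((ea.prodCongr eb).trans
      ({ toFun := fun z i => (ZMod.chineseRemainder hab).symm (z.1 i, z.2 i)
         invFun := fun w => (fun i => ((ZMod.chineseRemainder hab) (w i)).1, fun i => ((ZMod.chineseRemainder hab) (w i)).2)
         left_inv := fun z => by simp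
         right_inv := fun w => by simp
         map_add' := fun z w => funext fun i => by simp [← map_add] } :
        (Fin r → ZMod a) × (Fin r → ZMod b) ≃+ (Fin r → ZMod (a * b))))⟩

end Groth.Agent.AVTorsLib
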