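import Groth.Agent.AVDegLib.MulN
import Groth.Agent.H23.TorsRed
import Groth.Agent.S1843
import Groth.Agent.AVTorsLib.DivGroup
import Groth.Prelude.Def_AbDual
import Mathlib.RingTheory.Etale.Field
import Mathlib.AlgebraicGeometry.AlgClosed.Basic
import Mathlib.AlgebraicGeometry.Morphisms.FlatRank

/-!
Torsion points of an abelian variety over an algebraically closed field.
-/

set_option autoImplicit false
set_option linter.style.haveILetI false
set_option linter.unusedSectionVars false
set_option backward.isDefEq.respectTransparency false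
set_option backward.isDefEq.respectTransparency.types false

universe u

open CategoryTheory CategoryTheory.Limits MonoidalCategory CartesianMonoidalCategory MonObj AlgebraicGeometry
  TopologicalSpace

namespace Groth.Agent.AVTorsLib

variable {k : Type u} [Field k]

/-- The base as an object over itself. -/
noncomputable abbrev base (k : Type u) [Field k] : Over (Spec (CommRingCat.of k)) := Over.mk (𝟙 (Spec (CommRingCat.of k)))

theorem geometricallyConnected_of_geometricallyIntegral {X Y : Scheme.{u}} (f : X ⟶ Y) [GeometricallyIntegral f] :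
    GeometricallyConnected f :=
  ⟨fun K _ x Z a b hp => by
    haveI : IsIntegral Z := GeometricallyIntegral.geometrically_isIntegral x a b hp
    infer_instance⟩

section points

variable [IsAlgClosed k]

/-- A finite scheme over an algebraically closed field has all its points rational. -/
theorem isClosed_point {N : Scheme.{u}} (q : N ⟶ Spec (CommRingCat.of k)) [IsFinite q] (x : N) :
    IsClosed ({x} : Set N) := by
  haveI : IsLocallyArtinian N := .of_locallyQuasiFinite q
  haveI : DiscreteTopology N := inferInstance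
  exact isClosed_discrete _

/-- Rational points of a finite scheme. -/
noncomputable def sectionsEquiv {N : Scheme.{u}} (q : N ⟶ Spec (CommRingCat.of k)) [IsFinite q] :
    {p : Spec (CommRingCat.of k) ⟶ N // p ≫ q = 𝟙 _} ≃ N :=
  (pointEquivClosedPoint q).trans (Equiv.subtypeUnivEquiv (isClosed_point q))

/-- A finite etale scheme over an algebraically closed field has as many points as its rank. -/
theorem natCard_eq_finrank {N : Scheme.{u}} (q : N ⟶ Spec (CommRingCat.of k)) [IsFinite q] [Etale q] :
    Nat.card N = Scheme.Hom.finrank q (IsLocalRing.closedPoint k) := by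
  haveI : IsAffine N := isAffine_of_isAffineHom q
  let C := Γ(N, ⊤)
  obtain ⟨φ, hφ⟩ := Spec.map_surjective (N.isoSpec.inv ≫ q)
  let : Algebra k C := φ.hom.toAlgebra
  have h1 : IsFinite (Spec.map φ) := by rw [hφ]; infer_instance
  have h2 : Etale (Spec.map φ) := by rw [hφ]; infer_instance
  have : Module.Finite k C := by rw [IsFinite.SpecMap_iff] at h1; exact h1
  have : Algebra.Etale k C := by rw [HasRingHomProperty.Spec_iff (P := @Etale)] at h2; exact h2
  have hq : q = N.isoSpec.hom ≫ Spec.map (CommRingCat.ofHom (algebraMap k C)) := by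
    rw [show CommRingCat.ofHom (algebraMap k C) = φ from rfl, hφ, Iso.hom_inv_id_assoc]
  haveI : IsFinite (Spec.map (CommRingCat.ofHom (algebraMap k C))) := h1
  haveI : Flat (Spec.map (CommRingCat.ofHom (algebraMap k C))) := by
    rw [Flat.SpecMap_iff]; exact RingHom.flat_algebraMap_iff.2 inferInstance
  rw [Nat.card_congr N.isoSpec.schemeIsoToHomeo.toEquiv]
  have e : Scheme.Hom.finrank q (IsLocalRing.closedPoint k) = Module.finrank k C := by
    rw [hq, Scheme.Hom.finrank_comp_left_of_isIso, Scheme.Hom.finrank_SpecMap_algebraMap,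
      Module.rankAtStalk_eq_finrank_of_free]
    rfl
  rw [e, (Algebra.FormallyEtale.equivPiOfIsSepClosed k C).toLinearEquiv.finrank_eq]
  haveI : IsArtinianRing C := isArtinian_of_tower k inferInstance
  haveI : Fintype (PrimeSpectrum C) := Fintype.ofFinite _
  rw [Module.finrank_pi, ← Nat.card_eq_fintype_card]
  rfl

end points

variable {A : Over (Spec (CommRingCat.of k))} [GrpObj A] [IsProper A.hom] [GeometricallyIntegral A.hom]

theorem isUnit_cast {n : ℕ} (hn : (n : k) ≠ 0) : IsUnit ((n : ℤ) : Γ(Spec (CommRingCat.of k), ⊤)) := by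
  have := (isUnit_iff_ne_zero.2 hn).map (Scheme.ΓSpecIso (CommRingCat.of k)).inv.hom
  rw [map_natCast] at this
  simpa using this

theorem isFinite_etale_pow (n : ℕ) (hn : (n : k) ≠ 0) :
    IsFinite (𝟙 A ^ n : A ⟶ A).left ∧ Etale (𝟙 A ^ n : A ⟶ A).left := by
  haveI : LocallyOfFinitePresentation A.hom := inferInstance
  haveI : GeometricallyConnected A.hom := geometricallyConnected_of_geometricallyIntegral A.hom
  rw [← zpow_natCast]
  exact ⟨H23.MulEtale.isFinite_zpow _ (isUnit_cast hn), H23.MulEtale.etale_zpow _ (isUnit_cast hn)⟩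

variable [IsAlgClosed k] [IsCommMonObj A]

/-- Rational points killed by `n`, as points of the kernel. -/
noncomputable def torsEquiv (n : ℕ) (hn : 1 ≤ n) :
    AbDual.torsPts A n (base k) ≃ ↥(H23.TorsRed.tors A n) :=
  haveI := AVMulN.isFinite_pow (A := A) n hn
  haveI : IsFinite (pullback.fst (η[A]).left (𝟙 A ^ n : A ⟶ A).left) :=
    MorphismProperty.pullback_fst (P := @IsFinite) _ _ inferInstance
  (H23.TorsRed.ptsEquiv A n (base k)).trans (sectionsEquiv (pullback.fst (η[A]).left (𝟙 A ^ n : A ⟶ A).left))

theorem natCard_torsPts {g : ℕ} (hg : topologicalKrullDim A.left = g) (n : ℕ) (hn : (n : k) ≠ 0) :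
    Nat.card (AbDual.torsPts A n (base k)) = n ^ (2 * g) := by
  have hn1 : 1 ≤ n := Nat.one_le_iff_ne_zero.2 fun h => hn (by simp [h])
  obtain ⟨hf, he⟩ := isFinite_etale_pow (A := A) n hn
  haveI : IsFinite (pullback.fst (η[A]).left (𝟙 A ^ n : A ⟶ A).left) :=
    MorphismProperty.pullback_fst (P := @IsFinite) _ _ hf
  haveI : Etale (pullback.fst (η[A]).left (𝟙 A ^ n : A ⟶ A).left) :=
    MorphismProperty.pullback_fst (P := @Etale) _ _ he
  haveI := hf
  haveI := he
  rw [Nat.card_congr (torsEquiv (A := A) n hn1),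
    natCard_eq_finrank (pullback.fst (η[A]).left (𝟙 A ^ n : A ⟶ A).left), Scheme.Hom.finrank_pullback_fst]
  have h := AVDegLib.finrank_zpow (A := A) hg (n : ℤ) (Int.natCast_ne_zero.2 (by omega))
    ((η[A]).left (IsLocalRing.closedPoint k))
  simpa using h

theorem natCard_torsPts_prime_le {g : ℕ} (hg : topologicalKrullDim A.left = g) (p : ℕ) [Fact p.Prime]
    [CharP k p] : Finite (AbDual.torsPts A p (base k)) ∧ Nat.card (AbDual.torsPts A p (base k)) ≤ p ^ g := by
  have hp1 : 1 ≤ p := (Fact.out : p.Prime).one_le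
  let q := pullback.fst (η[A]).left (𝟙 A ^ p : A ⟶ A).left
  let r := pullback.snd (η[A]).left (𝟙 A ^ p : A ⟶ A).left
  have hmem : ∀ z, r z ∈ {a : A.left | (𝟙 A ^ p).left a = η[A].left (IsLocalRing.closedPoint k)} := fun z => by
    show (𝟙 A ^ p : A ⟶ A).left (r z) = _
    rw [← Scheme.Hom.comp_apply, ← pullback.condition, Scheme.Hom.comp_apply]
    exact congrArg _ (@Subsingleton.elim (PrimeSpectrum k) _ _ _)
  haveI : IsClosedImmersion r := MorphismProperty.pullback_snd (P := @IsClosedImmersion) _ _ inferInstance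
  have hinj : Function.Injective r := r.isClosedEmbedding.injective
  have h1 := S1843.result k p A g hg
  have hfin : Finite ↥(H23.TorsRed.tors A p) := by
    haveI : Finite {a : A.left | (𝟙 A ^ p).left a = η[A].left (IsLocalRing.closedPoint k)} :=
      (Set.finite_of_encard_le_coe h1).to_subtype
    exact Finite.of_injective (fun z => (⟨r z, hmem z⟩ : {a : A.left |
      (𝟙 A ^ p).left a = η[A].left (IsLocalRing.closedPoint k)})) fun a b h => hinj (congrArg Subtype.val h)
  refine ⟨Finite.of_equiv _ (torsEquiv (A := A) p hp1).symm, ?_⟩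
  rw [Nat.card_congr (torsEquiv (A := A) p hp1)]
  have hfS := Set.finite_of_encard_le_coe h1
  haveI := hfS.to_subtype
  refine le_trans (Nat.card_le_card_of_injective (fun z => (⟨r z, hmem z⟩ : {a : A.left |
      (𝟙 A ^ p).left a = η[A].left (IsLocalRing.closedPoint k)})) fun a b h => hinj (congrArg Subtype.val h)) ?_
  rw [Nat.card_coe_set_eq]
  have := hfS.cast_ncard_eq
  rw [← this] at h1
  exact_mod_cast h1

/-- The rational points form a divisible group. -/
theorem exists_pow_eq (n : ℕ) (hn : 1 ≤ n) (a : base k ⟶ A) : ∃ b : base k ⟶ A, b ^ n = a := by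
  haveI := AVMulN.isFinite_pow (A := A) n hn
  haveI := AVMulN.surjective_pow (A := A) n hn
  let φ := (𝟙 A ^ n : A ⟶ A).left
  haveI : IsFinite (pullback.fst a.left φ) := MorphismProperty.pullback_fst (P := @IsFinite) _ _ inferInstance
  haveI : Surjective (pullback.fst a.left φ) := MorphismProperty.pullback_fst (P := @Surjective) _ _ inferInstance
  obtain ⟨z, -⟩ := (pullback.fst a.left φ).surjective (IsLocalRing.closedPoint k)
  obtain ⟨s, hs⟩ := (sectionsEquiv (pullback.fst a.left φ)).symm z
  refine ⟨Over.homMk (s ≫ pullback.snd a.left φ) ?_, ?_⟩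
  · have h1 : φ ≫ A.hom = A.hom := Over.w _
    rw [Category.assoc, ← h1, ← pullback.condition_assoc, Over.w a, ← Category.assoc, hs]
    exact Category.id_comp _
  · rw [← Category.comp_id (Over.homMk _ _), ← MonObj.comp_pow]
    ext1
    show (s ≫ pullback.snd a.left φ) ≫ φ = a.left
    rw [Category.assoc, ← pullback.condition, ← Category.assoc, hs]
    exact Category.id_comp _

/-- The group of points written additively. -/
theorem divisible (n : ℕ) (hn : 1 ≤ n) (x : Additive (base k ⟶ A)) : ∃ y, n • y = x := by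
  obtain ⟨b, hb⟩ := exists_pow_eq (A := A) n hn x.toMul
  exact ⟨Additive.ofMul b, congrArg Additive.ofMul hb⟩

variable (A) in
/-- The additive torsion subgroup and the torsion points. -/
noncomputable def torAddEquiv (n : ℕ) :
    (tor n : AddSubgroup (Additive (base k ⟶ A))) ≃+ Additive (AbDual.torsPts A n (base k)) where
  toFun x := Additive.ofMul ⟨x.1.toMul, congrArg Additive.toMul x.2⟩
  invFun x := ⟨Additive.ofMul x.toMul.1, congrArg Additive.ofMul x.toMul.2⟩
  left_inv _ := rfl
  right_inv _ := rfl
  map_add' _ _ := rfl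

theorem natCard_torA {g : ℕ} (hg : topologicalKrullDim A.left = g) (n : ℕ) (hn : (n : k) ≠ 0) :
    Nat.card (tor n : AddSubgroup (Additive (base k ⟶ A))) = n ^ (2 * g) :=
  (Nat.card_congr ((torAddEquiv A n).toEquiv.trans Additive.toMul)).trans (natCard_torsPts hg n hn)

/-- Multiplicative form of an equivalence with a power of `ℤ/n`. -/
noncomputable def mulOfAdd {n r : ℕ}
    (e : (tor n : AddSubgroup (Additive (base k ⟶ A))) ≃+ (Fin r → ZMod n)) :
    AbDual.torsPts A n (base k) ≃* Multiplicative (Fin r → ZMod n) where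
  toFun x := Multiplicative.ofAdd (e ((torAddEquiv A n).symm (Additive.ofMul x)))
  invFun y := (torAddEquiv A n (e.symm y.toAdd)).toMul
  left_inv x := by simp
  right_inv y := by simp
  map_mul' x y := by
    show Multiplicative.ofAdd (e ((torAddEquiv A n).symm (Additive.ofMul x + Additive.ofMul y))) = _
    rw [map_add, map_add]
    rfl

theorem nonempty_torsPts_equiv {g : ℕ} (hg : topologicalKrullDim A.left = g) (n : ℕ) (hn : (n : k) ≠ 0) :
    Nonempty (AbDual.torsPts A n (base k) ≃* Multiplicative (Fin (2 * g) → ZMod n)) := by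
  have hn0 : 0 < n := Nat.pos_of_ne_zero fun h => hn (by simp [h])
  obtain ⟨e⟩ := nonempty_equiv_tor_of_primePow (P := Additive (base k ⟶ A)) (2 * g) n hn0 fun p j hp hd => by
    haveI := Fact.mk hp
    rcases Nat.eq_zero_or_pos j with rfl | hj
    · rw [pow_zero]
      haveI : Subsingleton (tor 1 : AddSubgroup (Additive (base k ⟶ A))) :=
        ⟨fun x y => Subtype.ext (by
          rw [← one_nsmul x.1, (mem_tor x.1).1 x.2, ← one_nsmul y.1, (mem_tor y.1).1 y.2])⟩
      exact ⟨{ toFun := fun _ => 0, invFun := fun _ => 0, left_inv := fun x => Subsingleton.elim _ _,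
               right_inv := fun x => Subsingleton.elim _ _, map_add' := fun _ _ => Subsingleton.elim _ _ }⟩
    · have hpk : (p : k) ≠ 0 := fun h => hn (by
        obtain ⟨c, rfl⟩ := (dvd_pow_self p hj.ne').trans hd
        simp [h])
      exact nonempty_equiv_tor p (fun x => divisible (A := A) p hp.one_le x) _
        (natCard_torA hg p hpk) j
  exact ⟨mulOfAdd e⟩

theorem exists_pRank {g : ℕ} (hg : topologicalKrullDim A.left = g) (p : ℕ) [Fact p.Prime] [CharP k p] :
    ∃ i : ℕ, i ≤ g ∧ ∀ m : ℕ, Nonempty (AbDual.torsPts A (p ^ m) (base k) ≃*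
      Multiplicative (Fin i → ZMod (p ^ m))) := by
  obtain ⟨hf, hle⟩ := natCard_torsPts_prime_le (A := A) hg p
  haveI : Finite (tor p : AddSubgroup (Additive (base k ⟶ A))) :=
    Finite.of_equiv _ ((torAddEquiv A p).toEquiv.trans Additive.toMul).symm
  obtain ⟨r, hr⟩ := exists_natCard_tor p (P := Additive (base k ⟶ A))
  have hc : Nat.card (tor p : AddSubgroup (Additive (base k ⟶ A))) = Nat.card (AbDual.torsPts A p (base k)) :=
    Nat.card_congr ((torAddEquiv A p).toEquiv.trans Additive.toMul)
  refine ⟨r, (Nat.pow_le_pow_iff_right (Fact.out : p.Prime).one_lt).1 (by rw [← hr, hc]; exact hle), fun m => ?_⟩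
  obtain ⟨e⟩ := nonempty_equiv_tor p (fun x => divisible (A := A) p (Fact.out : p.Prime).one_le x) r hr m
  exact ⟨mulOfAdd e⟩

end Groth.Agent.AVTorsLib
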