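import Groth.Agent.AVDegLib.MulN
import Groth.Agent.H23.MulEtale
import Groth.Agent.H23.MaxAbelian
import Groth.Agent.S7785
import Groth.Agent.S7801

/-!
Multiplication by an integer on an abelian scheme is an isogeny of known degree.
-/

set_option autoImplicit false
set_option linter.style.haveILetI false
set_option linter.unusedSectionVars false

universe u

open CategoryTheory CategoryTheory.Limits MonoidalCategory CartesianMonoidalCategory MonObj AlgebraicGeometry
  TopologicalSpace

namespace Groth.Agent.AVTorsLib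

variable {S : Scheme.{u}} {X : Over S} [GrpObj X] [IsProper X.hom] [Flat X.hom]
  [LocallyOfFinitePresentation X.hom] [GeometricallyReduced X.hom] [GeometricallyConnected X.hom]

theorem map_zpow {T : Scheme.{u}} (σ : T ⟶ S) (n : ℤ) :
    letI : GrpObj ((Over.pullback σ).obj X) := Functor.grpObjObj
    (Over.pullback σ).map (𝟙 X ^ n) = 𝟙 ((Over.pullback σ).obj X) ^ n := by
  letI : GrpObj ((Over.pullback σ).obj X) := Functor.grpObjObj
  show (Over.pullback σ).homMonoidHom (𝟙 X ^ n) = _
  rw [_root_.map_zpow]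
  show ((Over.pullback σ).map (𝟙 X)) ^ n = _
  rw [CategoryTheory.Functor.map_id]

/-- On a fibre, multiplication by `n` is an isogeny of degree `n ^ (2 g)`. -/
theorem fibre_zpow (s : S) (n : ℤ) (hn : n ≠ 0) :
    letI : GrpObj ((Over.pullback (S.fromSpecResidueField s)).obj X) := Functor.grpObjObj
    let f := ((Over.pullback (S.fromSpecResidueField s)).map (𝟙 X ^ n)).left
    IsFinite f ∧ Flat f ∧ Surjective f ∧ ∀ (g : ℕ), topologicalKrullDim ↥(X.hom.fiber s) = g →
      ∀ a, Scheme.Hom.finrank f a = n.natAbs ^ (2 * g) := by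
  let σ := S.fromSpecResidueField s
  let Xk : Over (Spec (CommRingCat.of (S.residueField s))) := (Over.pullback σ).obj X
  letI : GrpObj Xk := Functor.grpObjObj
  haveI : IsProper Xk.hom := inferInstanceAs (IsProper (pullback.snd X.hom σ))
  haveI : GeometricallyReduced Xk.hom := inferInstanceAs (GeometricallyReduced (pullback.snd X.hom σ))
  haveI : GeometricallyConnected Xk.hom := inferInstanceAs (GeometricallyConnected (pullback.snd X.hom σ))
  haveI : Nonempty Xk.left := ⟨(η[Xk]).left (IsLocalRing.closedPoint _)⟩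
  haveI : ConnectedSpace Xk.left := GeometricallyConnected.connectedSpace_of_subsingleton (f := Xk.hom)
  haveI := H23.MaxAbelian.geometricallyIntegral_of_connected Xk
  obtain ⟨h1, h2, h3⟩ := AVDegLib.zpow_props (A := Xk) n hn
  intro f
  have hf : f = (𝟙 Xk ^ n).left := congrArg (fun m : Xk ⟶ Xk => m.left) (map_zpow σ n)
  rw [hf]
  exact ⟨h1, h2, h3, fun g hg a => AVDegLib.finrank_zpow (A := Xk) hg n hn a⟩

theorem isPullback_zpow (s : S) (n : ℤ) :
    IsPullback (pullback.fst X.hom (S.fromSpecResidueField s))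
      ((Over.pullback (S.fromSpecResidueField s)).map (𝟙 X ^ n)).left (𝟙 X ^ n).left
      (pullback.fst X.hom (S.fromSpecResidueField s)) :=
  H23.MulEtale.isPullback_map (S.fromSpecResidueField s) (𝟙 X ^ n)

theorem surjective_zpow (n : ℤ) (hn : n ≠ 0) : Surjective (𝟙 X ^ n : X ⟶ X).left := by
  refine ⟨fun x => ?_⟩
  let s := X.hom x
  obtain ⟨z, hz⟩ : x ∈ Set.range (pullback.fst X.hom (S.fromSpecResidueField s)) := by
    rw [Scheme.Pullback.range_fst, Scheme.range_fromSpecResidueField]
    rfl
  obtain ⟨-, -, hsurj, -⟩ := fibre_zpow (X := X) s n hn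
  obtain ⟨w, hw⟩ := hsurj.surj z
  refine ⟨pullback.fst X.hom (S.fromSpecResidueField s) w, ?_⟩
  rw [← Scheme.Hom.comp_apply, (isPullback_zpow (X := X) s n).w, Scheme.Hom.comp_apply, hw, hz]

theorem isFinite_zpow (n : ℤ) (hn : n ≠ 0) : IsFinite (𝟙 X ^ n : X ⟶ X).left := by
  set f := (𝟙 X ^ n : X ⟶ X).left
  haveI : IsProper (f ≫ X.hom) := by rw [Over.w]; infer_instance
  haveI : IsProper f := IsProper.of_comp f X.hom
  haveI : LocallyQuasiFinite f := by
    refine LocallyQuasiFinite.of_finite_preimage_singleton f fun y => ?_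
    let s := X.hom y
    let σ := S.fromSpecResidueField s
    obtain ⟨z, hz⟩ : y ∈ Set.range (pullback.fst X.hom σ) := by
      rw [Scheme.Pullback.range_fst, Scheme.range_fromSpecResidueField]
      rfl
    obtain ⟨hfin, -, -, -⟩ := fibre_zpow (X := X) s n hn
    have hinj : Function.Injective (pullback.fst X.hom σ) := (pullback.fst X.hom σ).isEmbedding.injective
    haveI := hfin
    refine ((IsFinite.finite_preimage_singleton ((Over.pullback σ).map (𝟙 X ^ n)).left z).image
      (pullback.fst X.hom σ)).subset fun x hx => ?_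
    have hxs : X.hom x = s := by
      show X.hom x = X.hom y
      rw [← (show f x = y from hx), ← Scheme.Hom.comp_apply, Over.w]
    obtain ⟨w, hw⟩ : x ∈ Set.range (pullback.fst X.hom σ) := by
      rw [Scheme.Pullback.range_fst, Scheme.range_fromSpecResidueField]
      exact hxs
    refine ⟨w, hinj ?_, hw⟩
    rw [hz, ← (show f x = y from hx), ← hw, ← Scheme.Hom.comp_apply, ← Scheme.Hom.comp_apply,
      (isPullback_zpow (X := X) s n).w]
  exact IsFinite.of_isProper_of_locallyQuasiFinite f

theorem flat_zpow (n : ℤ) (hn : n ≠ 0) : Flat (𝟙 X ^ n : X ⟶ X).left := by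
  haveI : IsCommMonObj X := S7785.result X
  haveI : IsMonHom (𝟙 X ^ n : X ⟶ X) :=
    { one_hom := by
        rw [GrpObj.comp_zpow, Category.comp_id, MonObj.one_eq_one, one_zpow]
      mul_hom := by
        have h : μ[X] = fst X X * snd X X := by rw [Hom.mul_def, lift_fst_snd, Category.id_comp]
        rw [h, GrpObj.comp_zpow, Category.comp_id, mul_zpow, MonObj.comp_mul,
          tensorHom_fst, tensorHom_snd, GrpObj.comp_zpow, GrpObj.comp_zpow, Category.comp_id, Category.comp_id] }
  haveI := isFinite_zpow (X := X) n hn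
  haveI := surjective_zpow (X := X) n hn
  exact (S7801.result X X (𝟙 X ^ n)).1

theorem finrank_zpow (g : S → ℕ) (hg : ∀ s : S, topologicalKrullDim ↥(X.hom.fiber s) = g s) (n : ℤ) (hn : n ≠ 0)
    (x : X.left) : Scheme.Hom.finrank (𝟙 X ^ n : X ⟶ X).left x = n.natAbs ^ (2 * g (X.hom x)) := by
  let s := X.hom x
  haveI := isFinite_zpow (X := X) n hn
  haveI := flat_zpow (X := X) n hn
  obtain ⟨z, hz⟩ : x ∈ Set.range (pullback.fst X.hom (S.fromSpecResidueField s)) := by
    rw [Scheme.Pullback.range_fst, Scheme.range_fromSpecResidueField]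
    rfl
  obtain ⟨-, -, -, hr⟩ := fibre_zpow (X := X) s n hn
  have h := Scheme.Hom.finrank_of_isPullback _ _ _ _ (isPullback_zpow (X := X) s n) z
  rw [hz, hr (g s) (hg s) z] at h
  exact h.symm

end Groth.Agent.AVTorsLib
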