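import Groth.Agent.AVTorsLib.Factor
import Groth.Agent.AVTorsLib.Tate
import Groth.Agent.H23.MulEtale
import Groth.Agent.IsogLib.ChowDescent
import Groth.Prelude.Def_SGA7a
import Groth.Prelude.Def_EndTate

/-!
Torsion points of an abelian variety over an arbitrary field, with values in an algebraically closed extension.
-/

set_option autoImplicit false
set_option linter.style.haveILetI false
set_option linter.unusedSectionVars false
set_option backward.isDefEq.respectTransparency false
set_option backward.isDefEq.respectTransparency.types false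
set_option synthInstance.maxHeartbeats 200000

universe u

open CategoryTheory CategoryTheory.Limits MonoidalCategory CartesianMonoidalCategory MonObj AlgebraicGeometry
  TopologicalSpace

namespace Groth.Agent.AVTorsLib

variable {k : Type u} [Field k] (Ω : Type u) [Field Ω] [Algebra k Ω]

/-- The structure map of the extension. -/
noncomputable abbrev extMap : Spec (CommRingCat.of Ω) ⟶ Spec (CommRingCat.of k) :=
  Spec.map (CommRingCat.ofHom (algebraMap k Ω))

/-- An `Ω`-point of the base change, read as an `Ω`-valued point. -/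
noncomputable def down {X : Over (Spec (CommRingCat.of k))} (a : base Ω ⟶ (Over.pullback (extMap (k := k) Ω)).obj X) :
    SGA7.pt (K := k) Ω ⟶ X :=
  Over.homMk (a.left ≫ pullback.fst X.hom (extMap Ω)) (by
    show (a.left ≫ pullback.fst X.hom (extMap Ω)) ≫ X.hom = extMap Ω
    have w : a.left ≫ pullback.snd X.hom (extMap Ω) = 𝟙 _ := Over.w a
    rw [Category.assoc, pullback.condition, reassoc_of% w])

theorem down_surjective {X : Over (Spec (CommRingCat.of k))} (x : SGA7.pt (K := k) Ω ⟶ X) :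
    ∃ a, down Ω a = x :=
  ⟨Over.homMk (pullback.lift x.left (𝟙 _) ((Over.w x).trans (Category.id_comp _).symm)) (pullback.lift_snd _ _ _),
    Over.OverMorphism.ext (pullback.lift_fst _ _ _)⟩

theorem down_injective {X : Over (Spec (CommRingCat.of k))} :
    Function.Injective (down Ω : (base Ω ⟶ (Over.pullback (extMap (k := k) Ω)).obj X) → _) := fun a b h =>
  Over.OverMorphism.ext (pullback.hom_ext (congrArg CommaMorphism.left h) ((Over.w a).trans (Over.w b).symm))

theorem down_comp {X Y : Over (Spec (CommRingCat.of k))} (a : base Ω ⟶ (Over.pullback (extMap (k := k) Ω)).obj X)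
    (f : X ⟶ Y) : down Ω (a ≫ (Over.pullback (extMap Ω)).map f) = down Ω a ≫ f := by
  refine Over.OverMorphism.ext ?_
  show (a.left ≫ ((Over.pullback (extMap Ω)).map f).left) ≫ pullback.fst Y.hom (extMap Ω) =
    (a.left ≫ pullback.fst X.hom (extMap Ω)) ≫ f.left
  simp [Category.assoc]

theorem down_one {X : Over (Spec (CommRingCat.of k))} [GrpObj X] :
    down Ω (1 : base Ω ⟶ Red.bc (extMap (k := k) Ω) X) = 1 := by
  refine Over.OverMorphism.ext ?_
  show ((toUnit (base Ω)).left ≫ (η[Red.bc (extMap (k := k) Ω) X]).left) ≫ pullback.fst X.hom (extMap Ω) =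
    (toUnit (SGA7.pt (K := k) Ω)).left ≫ (η[X]).left
  rw [Category.assoc]
  refine (congrArg ((toUnit (base Ω)).left ≫ ·) (IsogLib.one_bc_left_fst (extMap Ω) X)).trans ?_
  exact Category.id_comp _

theorem down_pow {X : Over (Spec (CommRingCat.of k))} [GrpObj X]
    (a : base Ω ⟶ Red.bc (extMap (k := k) Ω) X) (n : ℕ) : down Ω (a ^ n) = down Ω a ^ n := by
  have h : a ≫ (Over.pullback (extMap Ω)).map (𝟙 X ^ n) = a ^ n := by
    rw [H23.MulEtale.map_pow (extMap Ω) n, MonObj.comp_pow]
    exact congrArg (· ^ n) (Category.comp_id a)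
  rw [← h]
  refine (down_comp Ω a _).trans ?_
  rw [MonObj.comp_pow, Category.comp_id]

/-- Morphisms out of a reduced scheme locally of finite type agree when they agree on a dense set of geometric points. -/
theorem hom_ext_of_geomPts {X B : Over (Spec (CommRingCat.of k))} [IsReduced X.left] [IsSeparated B.hom]
    (f g : X ⟶ B) (S : Set (SGA7.pt (K := k) Ω ⟶ X))
    (hS : Dense ((fun a : SGA7.pt (K := k) Ω ⟶ X => a.left (IsLocalRing.closedPoint Ω)) '' S))
    (h : ∀ a ∈ S, a ≫ f = a ≫ g) : f = g := by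
  refine Over.OverMorphism.ext (ext_of_fromSpecResidueField_eq f.left g.left B.hom _ hS ?_
    ((Over.w f).trans (Over.w g).symm))
  rintro x ⟨a, ha, rfl⟩
  obtain ⟨φ, hφ⟩ : ∃ φ : X.left.residueField (a.left (IsLocalRing.closedPoint Ω)) ⟶ CommRingCat.of Ω,
      Spec.map φ ≫ X.left.fromSpecResidueField _ = a.left :=
    ⟨_, Scheme.descResidueField_stalkClosedPointTo_fromSpecResidueField Ω X.left a.left⟩
  haveI : Surjective (Spec.map φ) := ⟨fun y => ⟨IsLocalRing.closedPoint Ω,
    Subsingleton.elim (α := PrimeSpectrum (X.left.residueField (a.left (IsLocalRing.closedPoint Ω)))) _ _⟩⟩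
  letI : Algebra (X.left.residueField (a.left (IsLocalRing.closedPoint Ω))) Ω := φ.hom.toAlgebra
  haveI : Flat (Spec.map φ) := by
    rw [HasRingHomProperty.Spec_iff (P := @Flat)]
    exact (RingHom.flat_algebraMap_iff).2 inferInstance
  haveI : EffectiveEpi (Spec.map φ) := inferInstance
  rw [← cancel_epi (Spec.map φ), reassoc_of% hφ, reassoc_of% hφ]
  exact congrArg (fun m : SGA7.pt (K := k) Ω ⟶ B => m.left) (h a ha)

variable [IsAlgClosed Ω] {A : Over (Spec (CommRingCat.of k))} [GrpObj A] [IsProper A.hom]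
  [GeometricallyIntegral A.hom] [IsCommMonObj A]

theorem isAV_bc : IsProper (Red.bc (extMap (k := k) Ω) A).hom ∧ GeometricallyIntegral (Red.bc (extMap (k := k) Ω) A).hom :=
  ⟨MorphismProperty.pullback_snd (P := @IsProper) A.hom _ inferInstance,
    MorphismProperty.pullback_snd (P := @GeometricallyIntegral) A.hom _ inferInstance⟩

theorem pt_divisible (n : ℕ) (hn : 1 ≤ n) (x : Additive (SGA7.pt (K := k) Ω ⟶ A)) : ∃ y, n • y = x := by
  haveI := (isAV_bc (A := A) Ω).1
  haveI := (isAV_bc (A := A) Ω).2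
  obtain ⟨a, ha⟩ := down_surjective Ω x.toMul
  obtain ⟨b, hb⟩ := exists_pow_eq (A := Red.bc (extMap (k := k) Ω) A) n hn a
  refine ⟨Additive.ofMul (down Ω b), ?_⟩
  rw [← ofMul_pow, ← down_pow, hb, ha]
  rfl

theorem pt_natCard_tor {g : ℕ} (hg : topologicalKrullDim ↥(Red.bc (extMap (k := k) Ω) A).left = g) (n : ℕ)
    (hn : (n : k) ≠ 0) : Nat.card (tor n : AddSubgroup (Additive (SGA7.pt (K := k) Ω ⟶ A))) = n ^ (2 * g) := by
  haveI := (isAV_bc (A := A) Ω).1
  haveI := (isAV_bc (A := A) Ω).2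
  have hn' : (n : Ω) ≠ 0 := by
    rw [← map_natCast (algebraMap k Ω)]
    exact fun h => hn ((map_eq_zero _).1 h)
  rw [← natCard_torA (A := Red.bc (extMap (k := k) Ω) A) hg n hn']
  let e : ↥(tor (P := Additive (base Ω ⟶ Red.bc (extMap (k := k) Ω) A)) n) →
      ↥(tor (P := Additive (SGA7.pt (K := k) Ω ⟶ A)) n) := fun t =>
    ⟨Additive.ofMul (down Ω t.1.toMul), by
      show Additive.ofMul (down Ω t.1.toMul ^ n) = 0
      rw [← down_pow, show t.1.toMul ^ n = 1 from congrArg Additive.toMul t.2, down_one]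
      rfl⟩
  refine (Nat.card_congr (Equiv.ofBijective e ⟨?_, ?_⟩)).symm
  · exact fun s t h => Subtype.ext (down_injective Ω
      (congrArg (fun z : ↥(tor (P := Additive (SGA7.pt (K := k) Ω ⟶ A)) n) => z.1.toMul) h))
  · rintro ⟨x, hx⟩
    obtain ⟨a, ha⟩ := down_surjective Ω x.toMul
    refine ⟨⟨Additive.ofMul a, congrArg Additive.ofMul (down_injective Ω ?_)⟩, Subtype.ext (congrArg Additive.ofMul ha)⟩
    show down Ω (a ^ n) = down Ω 1
    rw [down_pow, down_one, ha]
    exact congrArg Additive.toMul hx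

theorem tateMod_free_pt (l : ℕ) [hl : Fact l.Prime] (hlk : (l : k) ≠ 0) :
    Module.Free ℤ_[l] (AbDual.TateMod A l (SGA7.pt (K := k) Ω)) ∧
      Module.Finite ℤ_[l] (AbDual.TateMod A l (SGA7.pt (K := k) Ω)) := by
  haveI := (isAV_bc (A := A) Ω).1
  haveI := (isAV_bc (A := A) Ω).2
  haveI : IsIntegral (Red.bc (extMap (k := k) Ω) A).left :=
    GeometricallyIntegral.isIntegral_of_subsingleton (Red.bc (extMap (k := k) Ω) A).hom
  have hg := VarDim.topologicalKrullDim_eq_deg_genericPoint (Red.bc (extMap (k := k) Ω) A).hom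
  exact ⟨(tateMod_free (pt_divisible Ω l hl.out.one_le) _ (pt_natCard_tor Ω hg l hlk)).1,
    (tateMod_free (pt_divisible Ω l hl.out.one_le) _ (pt_natCard_tor Ω hg l hlk)).2.1⟩

/-- A morphism out of an abelian variety vanishing on all torsion points of `l`-power order vanishes. -/
theorem eq_of_torsion {B : Over (Spec (CommRingCat.of k))} [IsSeparated B.hom] (φ ψ : A ⟶ B) (l : ℕ) [Fact l.Prime]
    (hlk : (l : k) ≠ 0)
    (h : ∀ (n : ℕ) (a : SGA7.pt (K := k) Ω ⟶ A), a ∈ AbDual.torsPts A (l ^ n) (SGA7.pt Ω) → a ≫ φ = a ≫ ψ) :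
    φ = ψ := by
  haveI := (isAV_bc (A := A) Ω).1
  haveI := (isAV_bc (A := A) Ω).2
  have hl' : (l : Ω) ≠ 0 := by
    rw [← map_natCast (algebraMap k Ω)]
    exact fun h => hlk ((map_eq_zero _).1 h)
  haveI : IsIntegral A.left := GeometricallyIntegral.isIntegral_of_subsingleton A.hom
  haveI : Surjective (pullback.fst A.hom (extMap (k := k) Ω)) :=
    MorphismProperty.pullback_fst (P := @Surjective) _ _ ⟨fun y => ⟨IsLocalRing.closedPoint Ω,
      Subsingleton.elim (α := PrimeSpectrum k) _ _⟩⟩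
  refine hom_ext_of_geomPts Ω φ ψ {a | ∃ n, a ∈ AbDual.torsPts A (l ^ n) (SGA7.pt Ω)} ?_ fun a ⟨n, hn⟩ => h n a hn
  have hd : Dense (pnt '' (torsAll (Red.bc (extMap (k := k) Ω) A) l : Set (base Ω ⟶ Red.bc (extMap (k := k) Ω) A))) :=
    dense_iff_closure_eq.2 (torsClosure_eq_univ l hl')
  refine ((pullback.fst A.hom (extMap (k := k) Ω)).surjective.denseRange.dense_image
    (pullback.fst A.hom (extMap (k := k) Ω)).continuous hd).mono ?_
  rintro _ ⟨_, ⟨a, ⟨n, hn⟩, rfl⟩, rfl⟩
  exact ⟨down Ω a, ⟨n, show down Ω a ^ (l ^ n) = 1 by rw [← down_pow, hn, down_one]⟩, rfl⟩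

/-- A homomorphism vanishing on the geometric points of order dividing `N` is divisible by `N` over the base field. -/
theorem exists_factor_geom {B : Over (Spec (CommRingCat.of k))} [GrpObj B] [IsSeparated B.hom] (φ : A ⟶ B)
    [IsMonHom φ] (N : ℕ) (hN : (N : k) ≠ 0)
    (h : ∀ a : SGA7.pt (K := k) Ω ⟶ A, a ∈ AbDual.torsPts A N (SGA7.pt Ω) → a ≫ φ = 1) :
    ∃ φ' : A ⟶ B, IsMonHom φ' ∧ φ = (𝟙 A ^ N) ≫ φ' := by
  haveI : IsIntegral A.left := GeometricallyIntegral.isIntegral_of_subsingleton A.hom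
  have hN1 : 1 ≤ N := Nat.one_le_iff_ne_zero.2 fun h => hN (by simp [h])
  set ν : A ⟶ A := 𝟙 A ^ N with hν
  haveI : IsMonHom ν := AVDegLib.isMonHom_pow (A := A) N
  obtain ⟨hf, he⟩ : IsFinite ν.left ∧ Etale ν.left := isFinite_etale_pow (A := A) N hN
  haveI := hf
  haveI := he
  haveI : Surjective ν.left := AVMulN.surjective_pow (A := A) N hN1
  let R : Over (Spec (CommRingCat.of k)) := Over.mk (pullback.fst ν.left ν.left ≫ A.hom)
  let p₁ : R ⟶ A := Over.homMk (pullback.fst ν.left ν.left) rfl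
  let p₂ : R ⟶ A := Over.homMk (pullback.snd ν.left ν.left) (by
    show pullback.snd ν.left ν.left ≫ A.hom = pullback.fst ν.left ν.left ≫ A.hom
    rw [← Over.w ν, pullback.condition_assoc])
  haveI : LocallyOfFiniteType R.hom :=
    inferInstanceAs (LocallyOfFiniteType (pullback.fst ν.left ν.left ≫ A.hom))
  haveI : IsReduced R.left := by
    haveI : GeometricallyConnected A.hom := geometricallyConnected_of_geometricallyIntegral A.hom
    haveI : Smooth A.hom := H23.MulEtale.smooth (X := A)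
    haveI : Etale (pullback.fst ν.left ν.left) := MorphismProperty.pullback_fst (P := @Etale) _ _ he
    haveI : Smooth (pullback.fst ν.left ν.left ≫ A.hom) := inferInstance
    exact GrpSchLib.isReduced_of_smooth_field (pullback.fst ν.left ν.left ≫ A.hom)
  have hp : p₁ ≫ φ = p₂ ≫ φ := by
    refine hom_ext_of_geomPts Ω _ _ Set.univ ?_ fun a _ => ?_
    · let RΩ : Over (Spec (CommRingCat.of Ω)) := (Over.pullback (extMap (k := k) Ω)).obj R
      haveI : LocallyOfFiniteType RΩ.hom :=
        MorphismProperty.pullback_snd (P := @LocallyOfFiniteType) R.hom _ inferInstance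
      haveI : JacobsonSpace RΩ.left := LocallyOfFiniteType.jacobsonSpace RΩ.hom
      haveI : Surjective (pullback.fst R.hom (extMap (k := k) Ω)) :=
        MorphismProperty.pullback_fst (P := @Surjective) _ _ ⟨fun y => ⟨IsLocalRing.closedPoint Ω,
          Subsingleton.elim (α := PrimeSpectrum k) _ _⟩⟩
      refine ((pullback.fst R.hom (extMap (k := k) Ω)).surjective.denseRange.dense_image
        (pullback.fst R.hom (extMap (k := k) Ω)).continuous
        (dense_iff_closure_eq.2 (closure_closedPoints (X := RΩ.left)))).mono ?_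
      rintro _ ⟨x, hx, rfl⟩
      obtain ⟨a, ha⟩ := exists_pnt_eq (X := RΩ) hx
      exact ⟨down Ω a, trivial, congrArg (pullback.fst R.hom (extMap Ω)) ha⟩
    · have hcond : (a ≫ p₁) ≫ ν = (a ≫ p₂) ≫ ν := by
        ext1
        show (a.left ≫ pullback.fst ν.left ν.left) ≫ ν.left = (a.left ≫ pullback.snd ν.left ν.left) ≫ ν.left
        rw [Category.assoc, Category.assoc, pullback.condition]
      have hd : ((a ≫ p₁) * (a ≫ p₂)⁻¹) ^ N = 1 := by
        rw [hν, MonObj.comp_pow, MonObj.comp_pow, Category.comp_id, Category.comp_id] at hcond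
        rw [_root_.mul_pow, _root_.inv_pow, hcond, _root_.mul_inv_cancel]
      have := h _ hd
      rw [MonObj.mul_comp, GrpObj.inv_comp, mul_inv_eq_one] at this
      simpa only [Category.assoc] using this
  haveI : Flat ν.left := inferInstance
  haveI : EffectiveEpi ν.left := inferInstance
  have hpl : ∀ {Z : Scheme.{u}} (g₁ g₂ : Z ⟶ A.left), g₁ ≫ ν.left = g₂ ≫ ν.left → g₁ ≫ φ.left = g₂ ≫ φ.left := by
    intro Z g₁ g₂ hg
    have := congrArg (fun m : R ⟶ B => pullback.lift g₁ g₂ hg ≫ m.left) hp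
    simp only [p₁, p₂, Over.comp_left, Over.homMk_left, pullback.lift_fst_assoc, pullback.lift_snd_assoc] at this
    exact this
  let f' := EffectiveEpi.desc ν.left φ.left hpl
  have hf' : ν.left ≫ f' = φ.left := EffectiveEpi.fac ν.left φ.left hpl
  let φ' : A ⟶ B := Over.homMk f' (by
    rw [← cancel_epi ν.left, ← Category.assoc, hf', Over.w, Over.w])
  have hφ : ν ≫ φ' = φ := Over.OverMorphism.ext hf'
  refine ⟨φ', ?_, hφ.symm⟩
  haveI : Epi ν.left := inferInstance
  haveI : Surjective (ν ⊗ₘ ν).left := ⟨fun y => by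
    show y ∈ Set.range (ν ⊗ₘ ν).left
    rw [GrpSchLib.range_tensorHom (G := A)]
    exact ⟨ν.left.surjective _, ν.left.surjective _⟩⟩
  haveI : IsDominant (ν ⊗ₘ ν).left := inferInstance
  haveI : IsIntegral (A ⊗ A).left :=
    @H23.MaxAbelian.isIntegral_of_geometricallyIntegral _ _ (A ⊗ A) (H23.MaxAbelian.geometricallyIntegral_tensor A A)
  refine ⟨?_, ?_⟩
  · rw [← IsMonHom.one_hom ν, Category.assoc, hφ]
    exact IsMonHom.one_hom φ
  · refine Over.OverMorphism.ext (ext_of_isDominant_of_isSeparated B.hom ((Over.w _).trans (Over.w _).symm)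
      (ν ⊗ₘ ν).left ?_)
    rw [← Over.comp_left, ← Over.comp_left, ← Category.assoc, ← IsMonHom.mul_hom ν, Category.assoc, hφ,
      IsMonHom.mul_hom φ, ← Category.assoc, MonoidalCategory.tensorHom_comp_tensorHom, hφ]

end Groth.Agent.AVTorsLib
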