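import Groth.Agent.AVTorsLib.Count
import Groth.Agent.H23.EquidimFibres
import Groth.Agent.VarDim.Top

/-!
The torsion points of prime power order are dense.
-/

set_option autoImplicit false
set_option linter.style.haveILetI false
set_option linter.unusedSectionVars false

universe u

open CategoryTheory CategoryTheory.Limits MonoidalCategory CartesianMonoidalCategory MonObj AlgebraicGeometry
  TopologicalSpace

namespace Groth.Agent.AVTorsLib

variable {k : Type u} [Field k] [IsAlgClosed k] {A : Over (Spec (CommRingCat.of k))} [GrpObj A] [IsProper A.hom]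
  [GeometricallyIntegral A.hom] [IsCommMonObj A]

/-- The point of the underlying space of a rational point. -/
noncomputable abbrev pnt {X : Over (Spec (CommRingCat.of k))} (a : base k ⟶ X) : X.left :=
  a.left (IsLocalRing.closedPoint k)

theorem exists_pnt_eq {X : Over (Spec (CommRingCat.of k))} [LocallyOfFiniteType X.hom] {x : X.left}
    (hx : IsClosed ({x} : Set X.left)) : ∃ a : base k ⟶ X, pnt a = x :=
  ⟨Over.homMk (pointOfClosedPoint X.hom x hx) (pointOfClosedPoint_comp _ _ _), pointOfClosedPoint_apply _ _ _ _⟩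

theorem pnt_comp {X Y : Over (Spec (CommRingCat.of k))} (a : base k ⟶ X) (f : X ⟶ Y) :
    pnt (a ≫ f) = f.left (pnt a) := rfl

variable (A) in
/-- Translation by a rational point. -/
noncomputable def transl (a : base k ⟶ A) : A ≅ A where
  hom := 𝟙 A * (Over.homMk A.hom (Category.comp_id _) ≫ a)
  inv := 𝟙 A * (Over.homMk A.hom (Category.comp_id _) ≫ a⁻¹)
  hom_inv_id := by
    rw [MonObj.comp_mul, Category.comp_id, ← Category.assoc, _root_.mul_assoc]
    have : (𝟙 A * (Over.homMk A.hom (Category.comp_id _) ≫ a)) ≫ (Over.homMk A.hom (Category.comp_id _) : A ⟶ base k) =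
        Over.homMk A.hom (Category.comp_id _) := by
      ext
      show _ ≫ A.hom = A.hom
      rw [Over.w]
    rw [this, ← MonObj.comp_mul, _root_.mul_inv_cancel, MonObj.comp_one, _root_.mul_one]
  inv_hom_id := by
    rw [MonObj.comp_mul, Category.comp_id, ← Category.assoc, _root_.mul_assoc]
    have : (𝟙 A * (Over.homMk A.hom (Category.comp_id _) ≫ a⁻¹)) ≫ (Over.homMk A.hom (Category.comp_id _) : A ⟶ base k) =
        Over.homMk A.hom (Category.comp_id _) := by
      ext
      show _ ≫ A.hom = A.hom
      rw [Over.w]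
    rw [this, ← MonObj.comp_mul, _root_.inv_mul_cancel, MonObj.comp_one, _root_.mul_one]

theorem comp_transl (b a : base k ⟶ A) : b ≫ (transl A a).hom = b * a := by
  show b ≫ (𝟙 A * (Over.homMk A.hom (Category.comp_id _) ≫ a)) = _
  rw [MonObj.comp_mul, Category.comp_id, ← Category.assoc]
  congr 1
  have : b ≫ (Over.homMk A.hom (Category.comp_id _) : A ⟶ base k) = 𝟙 (base k) := by
    ext
    show b.left ≫ A.hom = 𝟙 _
    rw [Over.w b]
    rfl
  rw [this, Category.id_comp]

variable (A) in
/-- Translation on the underlying space. -/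
noncomputable def translHomeo (a : base k ⟶ A) : A.left ≃ₜ A.left :=
  ((Over.forget _).mapIso (transl A a)).schemeIsoToHomeo

theorem translHomeo_pnt (a b : base k ⟶ A) : translHomeo A a (pnt b) = pnt (b * a) := by
  rw [← comp_transl]
  rfl

variable (l : ℕ) [hl : Fact l.Prime]

variable (A) in
/-- The rational points of `l`-power order. -/
def torsAll : Subgroup (base k ⟶ A) where
  carrier := {a | ∃ n, a ^ (l ^ n) = 1}
  one_mem' := ⟨0, by simp⟩
  mul_mem' := by
    rintro a b ⟨m, hm⟩ ⟨n, hn⟩
    exact ⟨m + n, by rw [_root_.mul_pow, pow_add, pow_mul, hm, _root_.one_pow, _root_.one_mul,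
      _root_.mul_comm (l ^ m) (l ^ n), pow_mul, hn, _root_.one_pow]⟩
  inv_mem' := by
    rintro a ⟨n, hn⟩
    exact ⟨n, by rw [_root_.inv_pow, hn, inv_one]⟩

variable (A) in
/-- The closure of the torsion. -/
def torsClosure : Set A.left := closure (pnt '' (torsAll A l : Set (base k ⟶ A)))

theorem pnt_mem {a : base k ⟶ A} (ha : a ∈ torsAll A l) : pnt a ∈ torsClosure A l :=
  subset_closure ⟨a, ha, rfl⟩

theorem image_transl {a : base k ⟶ A} (ha : a ∈ torsAll A l) :
    translHomeo A a '' torsClosure A l = torsClosure A l := by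
  unfold torsClosure
  rw [Homeomorph.image_closure, Set.image_image]
  congr 1
  ext x
  simp only [Set.mem_image, SetLike.mem_coe, translHomeo_pnt]
  constructor
  · rintro ⟨b, hb, rfl⟩; exact ⟨_, mul_mem hb ha, rfl⟩
  · rintro ⟨b, hb, rfl⟩; exact ⟨_, mul_mem hb (inv_mem ha), by rw [inv_mul_cancel_right]⟩

theorem pnt_mul_mem {b c : base k ⟶ A} (hb : pnt b ∈ torsClosure A l) (hc : pnt c ∈ torsClosure A l) :
    pnt (b * c) ∈ torsClosure A l := by
  have h1 : ∀ a ∈ torsAll A l, ∀ d : base k ⟶ A, pnt d ∈ torsClosure A l → pnt (a * d) ∈ torsClosure A l :=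
    fun a ha d hd => by
      rw [mul_comm, ← translHomeo_pnt, ← image_transl l ha]
      exact ⟨_, hd, rfl⟩
  have h2 : torsClosure A l ⊆ translHomeo A c ⁻¹' torsClosure A l := by
    refine closure_minimal ?_ (isClosed_closure.preimage (translHomeo A c).continuous)
    rintro _ ⟨a, ha, rfl⟩
    show translHomeo A c (pnt a) ∈ torsClosure A l
    rw [translHomeo_pnt]
    exact h1 a ha c hc
  have := h2 hb
  rwa [Set.mem_preimage, translHomeo_pnt] at this

theorem pnt_inv_mem {b : base k ⟶ A} (hb : pnt b ∈ torsClosure A l) : pnt b⁻¹ ∈ torsClosure A l := by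
  let iv : A ⟶ A := (𝟙 A)⁻¹
  have h2 : torsClosure A l ⊆ iv.left ⁻¹' torsClosure A l := by
    refine closure_minimal ?_ (isClosed_closure.preimage iv.left.continuous)
    rintro _ ⟨a, ha, rfl⟩
    show iv.left (pnt a) ∈ torsClosure A l
    rw [← pnt_comp, show a ≫ iv = a⁻¹ by rw [GrpObj.comp_inv, Category.comp_id]]
    exact pnt_mem l (inv_mem ha)
  have := h2 hb
  rwa [Set.mem_preimage, ← pnt_comp, show b ≫ iv = b⁻¹ by rw [GrpObj.comp_inv, Category.comp_id]] at this

theorem isIrreducible_torsClosure : IsIrreducible (torsClosure A l) := by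
  classical
  haveI : IsLocallyNoetherian A.left := LocallyOfFiniteType.isLocallyNoetherian A.hom
  haveI : CompactSpace A.left := QuasiCompact.compactSpace_of_compactSpace A.hom
  haveI : IsNoetherian A.left := {}
  haveI : NoetherianSpace A.left := inferInstance
  let Z := torsClosure A l
  haveI : NoetherianSpace Z := NoetherianSpace.set Z
  haveI : Finite (irreducibleComponents Z) := (NoetherianSpace.finite_irreducibleComponents (α := Z)).to_subtype
  let e : torsAll A l → (Z ≃ₜ Z) := fun a =>
    ((translHomeo A a.1).image Z).trans (Homeomorph.setCongr (image_transl l a.2))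
  have he : ∀ (a : torsAll A l) (z : Z), ((e a z : Z) : A.left) = translHomeo A a.1 z := fun a z => rfl
  have hmul : ∀ (a b : torsAll A l) (z : Z), e (a * b) z = e b (e a z) := fun a b z => by
    refine Subtype.ext ?_
    rw [he, he, he]
    obtain ⟨z, hz⟩ := z
    show translHomeo A (a.1 * b.1) z = translHomeo A b.1 (translHomeo A a.1 z)
    have : (transl A (a.1 * b.1)).hom = (transl A a.1).hom ≫ (transl A b.1).hom := by
      show 𝟙 A * _ = (𝟙 A * _) ≫ (𝟙 A * _)
      have h0 : ((𝟙 A : A ⟶ A) * ((Over.homMk A.hom (Category.comp_id _) : A ⟶ base k) ≫ a.1)) ≫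
          (Over.homMk A.hom (Category.comp_id _) : A ⟶ base k) = Over.homMk A.hom (Category.comp_id _) := by
        ext
        show _ ≫ A.hom = A.hom
        rw [Over.w]
      rw [MonObj.comp_mul, MonObj.comp_mul, Category.comp_id, ← Category.assoc, h0, _root_.mul_assoc]
    exact congrArg (fun m : A ⟶ A => m.left z) this
  let act : torsAll A l → irreducibleComponents Z → irreducibleComponents Z := fun a C =>
    ⟨e a ⁻¹' C.1, preimage_mem_irreducibleComponents C.2 (e a).isOpenEmbedding (by
      rw [(e a).surjective.range_eq, Set.inter_univ]; exact C.2.1.nonempty)⟩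
  have hact : ∀ a b C, act (a * b) C = act a (act b C) := fun a b C =>
    Subtype.ext (Set.ext fun z => by simp [act, hmul])
  have hact1 : ∀ C, act 1 C = C := fun C => Subtype.ext (Set.ext fun z => by
    have : e 1 z = z := Subtype.ext (by
      rw [he]
      obtain ⟨a, ha⟩ := exists_pnt_eq (X := A) (x := (IsLocalRing.closedPoint k |> (η[A]).left)) (by
        have h := (η[A]).left.isClosedEmbedding.isClosed_range
        convert h using 1
        ext y
        exact ⟨fun hy => ⟨_, hy.symm⟩, fun ⟨w, hw⟩ => by
          rw [← hw]; exact congrArg _ (Subsingleton.elim (α := PrimeSpectrum k) w _)⟩)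
      show (transl A (1 : base k ⟶ A)).hom.left z.1 = z.1
      rw [show (transl A (1 : base k ⟶ A)).hom = 𝟙 A by
        show 𝟙 A * _ = 𝟙 A
        rw [MonObj.comp_one, _root_.mul_one]]
      rfl)
    simp [act, this])
  let ρ : torsAll A l →* Equiv.Perm (irreducibleComponents Z) :=
    { toFun := fun a =>
        { toFun := act a
          invFun := act a⁻¹
          left_inv := fun C => by rw [← hact, inv_mul_cancel, hact1]
          right_inv := fun C => by rw [← hact, mul_inv_cancel, hact1] }
      map_one' := Equiv.ext hact1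
      map_mul' := fun a b => Equiv.ext (hact a b) }
  have htriv : ∀ a, ρ a = 1 := fun a => by
    set M := Nat.card (Equiv.Perm (irreducibleComponents Z))
    obtain ⟨b, hb⟩ := exists_pow_eq (A := A) (l ^ M) (Nat.one_le_iff_ne_zero.2 (pow_ne_zero _ hl.out.ne_zero)) a.1
    obtain ⟨n, hn⟩ := a.2
    have hbm : b ∈ torsAll A l := ⟨M + n, by rw [pow_add, pow_mul, hb, hn]⟩
    have h1 : a = ⟨b, hbm⟩ ^ (l ^ M) := Subtype.ext hb.symm
    have h2 : ρ ⟨b, hbm⟩ ^ (l ^ (M + n)) = 1 := by
      rw [← map_pow, show (⟨b, hbm⟩ : torsAll A l) ^ (l ^ (M + n)) = 1 from Subtype.ext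
        (show b ^ (l ^ (M + n)) = 1 by rw [pow_add, pow_mul, hb, hn]), map_one]
    obtain ⟨i, -, hi⟩ := (Nat.dvd_prime_pow hl.out).1 (orderOf_dvd_of_pow_eq_one h2)
    have hiM : i ≤ M := (Nat.lt_pow_self hl.out.one_lt (n := i)).le.trans
      (hi ▸ Nat.le_of_dvd Nat.card_pos (orderOf_dvd_natCard _))
    rw [h1, map_pow]
    exact orderOf_dvd_iff_pow_eq_one.1 (hi ▸ pow_dvd_pow l hiM)
  let z₀ : Z := ⟨pnt (1 : base k ⟶ A), pnt_mem l (one_mem _)⟩
  have hC : irreducibleComponent z₀ ∈ irreducibleComponents Z := irreducibleComponent_mem_irreducibleComponents z₀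
  have huniv : irreducibleComponent z₀ = Set.univ := by
    have hall : ∀ a : torsAll A l, (⟨pnt a.1, pnt_mem l a.2⟩ : Z) ∈ irreducibleComponent z₀ := fun a => by
      have h := congrArg (fun σ : Equiv.Perm (irreducibleComponents Z) => ((σ ⟨_, hC⟩ : irreducibleComponents Z) : Set Z))
        (htriv a)
      have h' : e a ⁻¹' irreducibleComponent z₀ = irreducibleComponent z₀ := h
      have hz : e a z₀ ∈ irreducibleComponent z₀ := by
        show z₀ ∈ e a ⁻¹' irreducibleComponent z₀
        rw [h']
        exact mem_irreducibleComponent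
      convert hz using 1
      refine Subtype.ext ?_
      rw [he]
      show pnt a.1 = translHomeo A a.1 (pnt (1 : base k ⟶ A))
      rw [translHomeo_pnt, _root_.one_mul]
    refine Set.eq_univ_of_forall fun z => ?_
    have hd : Dense (Subtype.val ⁻¹' (pnt '' (torsAll A l : Set (base k ⟶ A))) : Set Z) := by
      rw [Subtype.dense_iff, Subtype.image_preimage_coe,
        Set.inter_eq_right.2 (show pnt '' (torsAll A l : Set (base k ⟶ A)) ⊆ Z from subset_closure)]
      exact subset_rfl
    refine closure_minimal (s := Subtype.val ⁻¹' (pnt '' (torsAll A l : Set (base k ⟶ A)))) ?_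
      isClosed_irreducibleComponent (hd z)
    rintro ⟨_, _⟩ ⟨a, ha, rfl⟩
    exact hall ⟨a, ha⟩
  have hi : IsIrreducible (Set.univ : Set Z) := huniv ▸ isIrreducible_irreducibleComponent
  have := hi.image Subtype.val continuous_subtype_val.continuousOn
  rwa [Set.image_univ, Subtype.range_coe] at this

theorem torsClosure_eq_univ (hlk : (l : k) ≠ 0) : torsClosure A l = Set.univ := by
  haveI : IsIntegral A.left := GeometricallyIntegral.isIntegral_of_subsingleton A.hom
  obtain ⟨P, ψ, hψc, hψr, hPp, hPg, hPi⟩ := H23.EquidimFibres.exists_integral_sub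
    (X := A) isClosed_closure (isIrreducible_torsClosure (A := A) l)
  change Set.range ψ.left = torsClosure A l at hψr
  have hrange : ∀ {T : Over (Spec (CommRingCat.of k))} (f : T ⟶ A) [LocallyOfFiniteType T.hom],
      (∀ t : base k ⟶ T, pnt (t ≫ f) ∈ torsClosure A l) → Set.range f.left ⊆ Set.range ψ.left := by
    intro T f _ hf
    haveI : JacobsonSpace T.left := LocallyOfFiniteType.jacobsonSpace T.hom
    have h1 : closure (closedPoints T.left) ⊆ f.left ⁻¹' torsClosure A l := by
      refine closure_minimal (fun x hx => ?_) (isClosed_closure.preimage f.left.continuous)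
      obtain ⟨t, rfl⟩ := exists_pnt_eq (X := T) hx
      exact hf t
    rw [hψr]
    rintro _ ⟨x, rfl⟩
    exact h1 (by rw [closure_closedPoints]; trivial)
  have hP : ∀ t : base k ⟶ P, pnt (t ≫ ψ) ∈ torsClosure A l := fun t => hψr ▸ ⟨_, rfl⟩
  haveI : LocallyOfFiniteType (P ⊗ P).hom := by
    show LocallyOfFiniteType (pullback.fst P.hom P.hom ≫ P.hom)
    infer_instance
  haveI : LocallyOfFiniteType (𝟙_ (Over (Spec (CommRingCat.of k)))).hom :=
    inferInstanceAs (LocallyOfFiniteType (𝟙 (Spec (CommRingCat.of k))))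
  obtain ⟨N, _, j, hjm, hjc, hNp, hNg, hjr⟩ := H23.MaxAbelian.exists_image' ψ
    (hrange (η[A]) fun t => by
      rw [MonObj.one_eq_one, MonObj.comp_one]
      exact pnt_mem l (one_mem _))
    (hrange _ fun t => by
      rw [MonObj.comp_mul, ← Category.assoc, ← Category.assoc]
      exact pnt_mul_mem l (hP _) (hP _))
    (hrange _ fun t => by
      rw [GrpObj.comp_inv]
      exact pnt_inv_mem l (hP t))
  haveI : IsCommMonObj N := isCommMonObj_of_isProper_of_geometricallyIntegral N
  haveI : IsIntegral N.left := GeometricallyIntegral.isIntegral_of_subsingleton N.hom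
  have hmono : Mono j := (Over.forget _).mono_of_mono_map (inferInstanceAs (Mono j.left))
  set d := VarDim.deg N.hom (genericPoint N.left)
  set g := VarDim.deg A.hom (genericPoint A.left)
  have hd : topologicalKrullDim N.left = (d : ℕ) := VarDim.topologicalKrullDim_eq_deg_genericPoint N.hom
  have hg : topologicalKrullDim A.left = (g : ℕ) := VarDim.topologicalKrullDim_eq_deg_genericPoint A.hom
  have hl1 : 1 ≤ l := hl.out.one_le
  have hdg : d = g := by
    have e : AbDual.torsPts N l (base k) ≃ AbDual.torsPts A l (base k) := by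
      refine Equiv.ofBijective (fun t => ⟨t.1 ≫ j, show (t.1 ≫ j) ^ l = 1 by
        rw [← MonObj.pow_comp, show t.1 ^ l = 1 from t.2, MonObj.one_comp]⟩) ⟨fun s t h => Subtype.ext ((cancel_mono j).1
          (congrArg Subtype.val h)), fun a => ?_⟩
      have hmem : Set.range a.1.left ⊆ Set.range j.left := by
        rw [hjr, hψr]
        rintro _ ⟨x, rfl⟩
        rw [Subsingleton.elim (α := PrimeSpectrum k) x (IsLocalRing.closedPoint k)]
        exact pnt_mem l ⟨1, by rw [pow_one]; exact a.2⟩
      haveI : IsReduced (base k).left := inferInstanceAs (IsReduced (Spec (CommRingCat.of k)))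
      obtain ⟨m, hm⟩ := H23.RedSub.exists_lift_closed a.1.left j.left hmem
      have hw : m ≫ N.hom = (base k).hom := by rw [← Over.w j, ← Category.assoc, hm, Over.w]
      have hmj : Over.homMk m hw ≫ j = a.1 := Over.OverMorphism.ext hm
      refine ⟨⟨Over.homMk m hw, (cancel_mono j).1 ?_⟩, Subtype.ext hmj⟩
      show (Over.homMk m hw ^ l) ≫ j = (1 : base k ⟶ N) ≫ j
      rw [MonObj.pow_comp, hmj, MonObj.one_comp]
      exact a.2
    have h := Nat.card_congr e
    rw [natCard_torsPts (A := N) hd l hlk, natCard_torsPts (A := A) hg l hlk] at h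
    have := Nat.pow_right_injective hl.out.two_le h
    omega
  have hgen : j.left (genericPoint N.left) = genericPoint A.left := by
    by_contra hne
    have hsp : genericPoint A.left ⤳ j.left (genericPoint N.left) := genericPoint_specializes _
    have hlt := VarDim.deg_strictMono A.hom (lt_iff_le_not_ge.2 ⟨hsp, fun h' => hne (Specializes.antisymm h' hsp).eq⟩)
    have hdeg : VarDim.deg A.hom (j.left (genericPoint N.left)) = d := by
      haveI : IsIso (j.left.residueFieldMap (genericPoint N.left)) := by
        refine (ConcreteCategory.isIso_iff_bijective _).2 ⟨RingHom.injective _, fun z => ?_⟩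
        obtain ⟨y, rfl⟩ := N.left.residue_surjective _ z
        obtain ⟨x, rfl⟩ := j.left.stalkMap_surjective _ y
        exact ⟨A.left.residue _ x, congr($(Scheme.residue_residueFieldMap j.left (genericPoint N.left)) x)⟩
      have h := VarDim.deg_comp A.hom j.left (genericPoint N.left)
      rw [← h]
      simp only [Over.w, d]
    omega
  have : (genericPoint A.left) ∈ torsClosure A l := by
    rw [← hψr, ← hjr]; exact ⟨_, hgen⟩
  refine Set.eq_univ_of_forall fun x => ?_
  exact (genericPoint_specializes x).mem_closed isClosed_closure this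

end Groth.Agent.AVTorsLib
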