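import Groth.Agent.AVTorsLib.Dense
import Groth.Agent.GrpSchLib.SmoothReduced
import Mathlib.AlgebraicGeometry.Sites.Fpqc
import Mathlib.CategoryTheory.EffectiveEpi.Basic

/-!
Homomorphisms out of an abelian variety are detected on torsion points.
-/

set_option autoImplicit false
set_option linter.style.haveILetI false
set_option linter.unusedSectionVars false
set_option backward.isDefEq.respectTransparency false
set_option backward.isDefEq.respectTransparency.types false

universe u

open CategoryTheory CategoryTheory.Limits MonoidalCategory CartesianMonoidalCategory MonObj AlgebraicGeometry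
  TopologicalSpace

namespace Groth.Agent.AVTorsLib

variable {k : Type u} [Field k] [IsAlgClosed k] {A : Over (Spec (CommRingCat.of k))} [GrpObj A] [IsProper A.hom]
  [GeometricallyIntegral A.hom] [IsCommMonObj A]

/-- Two morphisms out of a reduced scheme agree when they agree on a dense set of rational points. -/
theorem hom_ext_of_dense {X B : Over (Spec (CommRingCat.of k))} [IsReduced X.left] [LocallyOfFiniteType X.hom]
    [IsSeparated B.hom] (f g : X ⟶ B) (S : Set (base k ⟶ X)) (hS : Dense (pnt '' S))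
    (h : ∀ a ∈ S, a ≫ f = a ≫ g) : f = g := by
  refine Over.OverMorphism.ext (ext_of_fromSpecResidueField_eq f.left g.left B.hom (pnt '' S) hS ?_
    ((Over.w f).trans (Over.w g).symm))
  rintro x ⟨a, ha, rfl⟩
  have hx : IsClosed ({pnt a} : Set X.left) :=
    ((pointEquivClosedPoint X.hom) ⟨a.left, (Over.w a).trans rfl⟩).2
  have ha' : a.left = pointOfClosedPoint X.hom (pnt a) hx :=
    ext_of_apply_closedPoint_eq X.hom ((Over.w a).trans rfl) (pointOfClosedPoint_comp _ _ _)
      (pointOfClosedPoint_apply _ _ _ _).symm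
  have h' : a.left ≫ f.left = a.left ≫ g.left := congrArg (fun m : base k ⟶ B => m.left) (h a ha)
  rw [ha', pointOfClosedPoint, Category.assoc, Category.assoc] at h'
  exact (cancel_epi _).1 h'

theorem hom_eq_one_of_torsion {B : Over (Spec (CommRingCat.of k))} [GrpObj B] [IsSeparated B.hom] (φ : A ⟶ B)
    [IsMonHom φ] (l : ℕ) [Fact l.Prime] (hlk : (l : k) ≠ 0)
    (h : ∀ (n : ℕ) (a : base k ⟶ A), a ∈ AbDual.torsPts A (l ^ n) (base k) → a ≫ φ = 1) : φ = 1 := by
  haveI : IsIntegral A.left := GeometricallyIntegral.isIntegral_of_subsingleton A.hom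
  refine hom_ext_of_dense φ 1 (torsAll A l : Set (base k ⟶ A)) ?_ fun a ⟨n, hn⟩ => ?_
  · rw [dense_iff_closure_eq]; exact torsClosure_eq_univ l hlk
  · rw [h n a hn, MonObj.comp_one]

/-- A homomorphism vanishing on the rational points of order dividing `N` is divisible by `N`. -/
theorem exists_factor {B : Over (Spec (CommRingCat.of k))} [GrpObj B] [IsSeparated B.hom] (φ : A ⟶ B)
    [IsMonHom φ] (N : ℕ) (hN : (N : k) ≠ 0)
    (h : ∀ a : base k ⟶ A, a ∈ AbDual.torsPts A N (base k) → a ≫ φ = 1) :
    ∃ φ' : A ⟶ B, IsMonHom φ' ∧ φ = (𝟙 A ^ N) ≫ φ' := by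
  haveI : IsIntegral A.left := GeometricallyIntegral.isIntegral_of_subsingleton A.hom
  have hN1 : 1 ≤ N := Nat.one_le_iff_ne_zero.2 fun h => hN (by simp [h])
  set ν : A ⟶ A := 𝟙 A ^ N with hν
  haveI : IsMonHom ν := AVDegLib.isMonHom_pow (A := A) N
  obtain ⟨hf, he⟩ : IsFinite ν.left ∧ Etale ν.left := isFinite_etale_pow (A := A) N hN
  haveI := hf
  haveI := he
  haveI : Surjective ν.left := AVMulN.surjective_pow (A := A) N hN1
  -- the kernel pair
  let R : Over (Spec (CommRingCat.of k)) := Over.mk (pullback.fst ν.left ν.left ≫ A.hom)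
  let p₁ : R ⟶ A := Over.homMk (pullback.fst ν.left ν.left) rfl
  let p₂ : R ⟶ A := Over.homMk (pullback.snd ν.left ν.left) (by
    show pullback.snd ν.left ν.left ≫ A.hom = pullback.fst ν.left ν.left ≫ A.hom
    rw [← Over.w ν, pullback.condition_assoc])
  haveI : LocallyOfFiniteType R.hom :=
    inferInstanceAs (LocallyOfFiniteType (pullback.fst ν.left ν.left ≫ A.hom))
  haveI : IsReduced R.left := by
    haveI : GeometricallyConnected A.hom := geometricallyConnected_of_geometricallyIntegral A.hom
    haveI : Smooth A.hom := H23.MulEtale.smooth (X := A)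
    haveI : Etale (pullback.fst ν.left ν.left) := MorphismProperty.pullback_fst (P := @Etale) _ _ he
    haveI : Smooth (pullback.fst ν.left ν.left ≫ A.hom) := inferInstance
    exact GrpSchLib.isReduced_of_smooth_field (pullback.fst ν.left ν.left ≫ A.hom)
  have hp : p₁ ≫ φ = p₂ ≫ φ := by
    haveI : JacobsonSpace R.left := LocallyOfFiniteType.jacobsonSpace R.hom
    refine hom_ext_of_dense _ _ Set.univ ?_ fun a _ => ?_
    · refine Dense.mono (s₁ := closedPoints R.left) (fun x hx => ?_) ?_
      · obtain ⟨a, ha⟩ := exists_pnt_eq (X := R) hx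
        exact ⟨a, trivial, ha⟩
      · rw [dense_iff_closure_eq, closure_closedPoints]
    · have hcond : (a ≫ p₁) ≫ ν = (a ≫ p₂) ≫ ν := by
        ext1
        show (a.left ≫ pullback.fst ν.left ν.left) ≫ ν.left = (a.left ≫ pullback.snd ν.left ν.left) ≫ ν.left
        rw [Category.assoc, Category.assoc, pullback.condition]
      have hd : ((a ≫ p₁) * (a ≫ p₂)⁻¹) ^ N = 1 := by
        rw [hν, MonObj.comp_pow, MonObj.comp_pow, Category.comp_id, Category.comp_id] at hcond
        rw [_root_.mul_pow, _root_.inv_pow, hcond, _root_.mul_inv_cancel]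
      have := h _ hd
      rw [MonObj.mul_comp, GrpObj.inv_comp, mul_inv_eq_one] at this
      simpa only [Category.assoc] using this
  haveI : Flat ν.left := inferInstance
  haveI : EffectiveEpi ν.left := inferInstance
  have hpl : ∀ {Z : Scheme.{u}} (g₁ g₂ : Z ⟶ A.left), g₁ ≫ ν.left = g₂ ≫ ν.left → g₁ ≫ φ.left = g₂ ≫ φ.left := by
    intro Z g₁ g₂ hg
    have := congrArg (fun m : R ⟶ B => pullback.lift g₁ g₂ hg ≫ m.left) hp
    simp only [p₁, p₂, Over.comp_left, Over.homMk_left, pullback.lift_fst_assoc, pullback.lift_snd_assoc] at this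
    exact this
  let f' := EffectiveEpi.desc ν.left φ.left hpl
  have hf' : ν.left ≫ f' = φ.left := EffectiveEpi.fac ν.left φ.left hpl
  let φ' : A ⟶ B := Over.homMk f' (by
    rw [← cancel_epi ν.left, ← Category.assoc, hf', Over.w, Over.w])
  have hφ : ν ≫ φ' = φ := Over.OverMorphism.ext hf'
  refine ⟨φ', ?_, hφ.symm⟩
  haveI : Epi ν.left := inferInstance
  haveI : Epi ν := (Over.forget _).epi_of_epi_map (inferInstanceAs (Epi ν.left))
  haveI : Surjective (ν ⊗ₘ ν).left := ⟨fun y => by
    show y ∈ Set.range (ν ⊗ₘ ν).left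
    rw [GrpSchLib.range_tensorHom (G := A)]
    exact ⟨ν.left.surjective _, ν.left.surjective _⟩⟩
  haveI : IsDominant (ν ⊗ₘ ν).left := inferInstance
  haveI : IsIntegral (A ⊗ A).left :=
    @H23.MaxAbelian.isIntegral_of_geometricallyIntegral _ _ (A ⊗ A) (H23.MaxAbelian.geometricallyIntegral_tensor A A)
  refine ⟨?_, ?_⟩
  · rw [← IsMonHom.one_hom ν, Category.assoc, hφ]
    exact IsMonHom.one_hom φ
  · refine Over.OverMorphism.ext (ext_of_isDominant_of_isSeparated B.hom ((Over.w _).trans (Over.w _).symm)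
      (ν ⊗ₘ ν).left ?_)
    rw [← Over.comp_left, ← Over.comp_left, ← Category.assoc, ← IsMonHom.mul_hom ν, Category.assoc, hφ,
      IsMonHom.mul_hom φ, ← Category.assoc, MonoidalCategory.tensorHom_comp_tensorHom, hφ]

end Groth.Agent.AVTorsLib
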